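import Cfsg.Agent.Lib.Six.CaseB
import Cfsg.Agent.Lib.FT.GW.L2

/-!
# Case B with cyclic centre: the subgroup `2³ L₃(2)`
-/

set_option autoImplicit false

namespace Cfsg.Lib.Six
open Subgroup Cfsg Cfsg.Lib Cfsg.Lib.FT Cfsg.Lib.GW
open scoped commutatorElement

variable {G : Type*} [Group G]

theorem oz_conj {S : Subgroup G} {z : G} (h : oz S ≤ zpowers z) (g : G) :
    oz (g •ᶜ S) ≤ zpowers (g * z * g⁻¹) := fun a ha => by
  rw [← conj_zpowers, mem_map_conj]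
  refine h ⟨mem_map_conj.1 ha.1, mem_map_conj.1 ?_, by simpa using conj_sq (g := g⁻¹) ha.2.2⟩
  rw [conj_centralizer]; exact ha.2.1

theorem two_pow_mod7 (j : ℕ) : 3 * 2 ^ j % 7 ≠ 1 := by
  have : 2 ^ j % 7 = 1 ∨ 2 ^ j % 7 = 2 ∨ 2 ^ j % 7 = 4 := by
    induction j with
    | zero => simp
    | succ j ih => rw [pow_succ]; omega
  omega

variable [Finite G]

theorem syl_mod {p : ℕ} [Fact p.Prime] {P K : Subgroup G} (h : IsSylowIn p P K) :
    N[P].relIndex K % p = 1 := by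
  obtain ⟨S, e⟩ := h.exists_sylow'
  have := card_sylow_modEq_one p K
  rw [S.card_eq_index_normalizer, ← S.coe_coe, e, ← subgroupOf_normalizer_eq h.le] at this
  exact Eq.trans this (Nat.mod_eq_of_lt (Fact.out : p.Prime).one_lt)

namespace CB
variable {z y b : G} {Q : Subgroup G} (c : CB z y b Q ⊥)
include c

omit [Finite G] in
theorem le_of {X : Subgroup G} (h1 : Q ⊔ zpowers b ≤ X) (h2 : y ∈ X) : C1[z] ≤ X := fun g hg => by
  obtain ⟨q, hq, o, ho, i, hi, e⟩ := c.dec g hg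
  have := mul_mem (mul_mem (h1 (mem_sup_left hq)) (bot_le (a := X) ho)) (zpowers_le.2 h2 hi)
  rcases e with rfl | rfl
  exacts [this, mul_mem this (h1 (mem_sup_right (mem_zpowers b)))]

theorem card_c1 (h : Hyp G) : ∃ k, Nat.card Q = 2 ^ k ∧
    ∀ a : G, orderOf a = 2 → Nat.card C1[a] = 6 * 2 ^ k := by
  obtain ⟨k, hk⟩ := c.Q2.exists_card_eq
  refine ⟨k, hk, fun a ha => ?_⟩
  rw [sm_card_centralizer_of_isConj (h.oc _ _ c.hz ha), c.card, hk, card_bot, mul_one]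

theorem two_of (h : Hyp G) {a : G} (ha : orderOf a = 2) {D : Subgroup G} (h1 : D ≤ C1[a])
    (h3 : ¬ 3 ∣ Nat.card D) : IsPGroup 2 D := by
  obtain ⟨k, -, hk⟩ := c.card_c1 h
  have := card_dvd_of_le h1
  rw [hk a ha, show 6 * 2 ^ k = 3 * 2 ^ (k + 1) by ring] at this
  obtain ⟨j, -, e⟩ := (Nat.dvd_prime_pow Nat.prime_two).1
    ((Nat.prime_three.coprime_iff_not_dvd.2 h3).symm.dvd_of_dvd_mul_left this)
  exact isPGroup_of_card_eq e

theorem fpf (h : Hyp G) {K P : Subgroup G} (hK : (Nat.card K).Coprime 6) (hP : IsPGroup 2 P) :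
    Semiregular P K := semiregular_iff.2 fun x hx h1 a ha e => by
  by_contra e'
  obtain ⟨t, h2, ht⟩ := sm_exists_mem_orderOf_eq Nat.prime_two _ (dvd_card_of_isPGroup_of_ne_bot
    (hP.to_le (zpowers_le.2 ha)) (by rwa [Ne, zpowers_eq_bot]))
  have h3 : zpowers x ≤ C1[t] := zpowers_le.2 (mem_c1_symm (zpowers_le.2 (mem_c1.2 e.symm) h2))
  have h4 := hK.coprime_dvd_left (card_dvd_of_le (zpowers_le.2 hx))
  have h5 := dvd_card_of_isPGroup_of_ne_bot (c.two_of h ht h3 fun e =>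
    absurd (Nat.Coprime.coprime_dvd_left e h4) (by decide)) (by rwa [Ne, zpowers_eq_bot])
  exact absurd (Nat.Coprime.coprime_dvd_left h5 h4) (by decide)

variable (h : Hyp G) (hZ : oz (Q ⊔ zpowers b) ≤ zpowers z) {u : G} (hu : u ∈ Q)
  (st : St (Q ⊔ zpowers b) (zpowers z) u)
include h hZ hu st

omit hu in
theorem s2 : S2 (Q ⊔ zpowers b) z u := ⟨c.hz, c.syl h, c.leS, hZ, st⟩

omit hZ in
theorem nU : C1[z] ≤ N[four z u ⊔ zpowers (y * u * y⁻¹)] :=
  c.le_of (c.st1 h hu st).1.nS' (c.st1 h hu st).2.1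

theorem w_nU {w : G} (t' : Tri (Q ⊔ zpowers b) ((Q ⊔ zpowers b) ⊓ C1[u]) w) (r : Rot w z u) :
    w ∈ N[four z u ⊔ zpowers (y * u * y⁻¹)] := by
  have c2 := c.s2 h hZ st
  obtain ⟨z', hz', e0, hc⟩ := c2.stop h c.tri c.yz c.zQ hu (c.leS.trans c.nQ) (c.ozQ h hZ)
    (fun s h1 h2 => c.cU h hu st h1 h2) t' r
  have hn := c.nU h hu st
  have s1 := (c.st1 h hu st).1
  set U := four z u ⊔ zpowers (y * u * y⁻¹)
  set T := (Q ⊔ zpowers b) ⊓ C1[u] with hT
  have hz0 : z' ∈ T ⊓ C1[w] := e0 ▸ mem_zpowers z'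
  have wz := mem_c1_symm hz0.2
  have zz' := mul_self2 hz'
  obtain ⟨g, e1, e2⟩ := c.all h hz' t'.hw wz
  have c' := c.conj g
  have hZ' := oz_conj (c.ozQ h hZ) g
  have hc' : Nat.card (g •ᶜ Q) = Nat.card T := by
    have := c2.card_T
    rw [c.cardS, ← hT] at this
    rw [card_map_conj]; omega
  rw [e1, e2] at c'
  rw [e1] at hZ'
  generalize g •ᶜ Q = Q' at *
  have hVT : four z u ≤ C[T] := c2.oz_T ▸ oz_le_c T
  have hVT' : four z u ≤ T := c2.oz_T ▸ oz_le T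
  have hzV : z' ∉ four z u := fun e => ne_one2 hz' (rot_fpf r e (conj_eq_of_c1 wz))
  have hT2 := t'.two.to_le t'.le
  have w0 : w ∈ N[T ⊓ C1[z']] := zpowers_le.1 (le_normalizer_inf (zpowers_le.2 t'.nR)
    (zpowers_le.2 (c1_le_nc _ wz)))
  have h0 := c'.le_Q h hT2.to_inf_left inf_le_right w0
  have hV0 : four z u ≤ T ⊓ C1[z'] := le_inf hVT' (le_c1_iff.2 (le_centralizer_symm hVT hz0.1))
  have z0 : z' ∈ T ⊓ C1[z'] := ⟨hz0.1, self_mem_c1 z'⟩
  have nz : ¬ Q' ≤ C1[z] := fun e => by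
    rcases (mem_zpowers_two zz').1 (hZ' ⟨h0 (hV0 (left_mem_four z u)), le_c1_iff.1 e, c.zz⟩) with e | e
    exacts [c2.four.t_ne e, hzV (e ▸ left_mem_four z u)]
  have m0 := c'.mod h hT2.to_inf_left z0 w0
  have mQ := c'.modQ h
  have h4 : Nat.card Q' = 4 * Nat.card ↥(T ⊓ C1[z']) := by
    have h1 := relIndex_le_ncard (X := T) (a := z') (s := (· * z') '' (four z u))
      (Set.toFinite _) fun g hg => ⟨_, comm_symm (hc g hg), by simp [commutatorElement_def]⟩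
    rw [Set.ncard_image_of_injective _ (mul_left_injective z')] at h1
    have h2 : (four z u : Set G).ncard = 4 := c2.four.card
    have h3 := GW.relIndex_mul_card_inf C1[z'] T
    have h5 : C1[z'].relIndex T ≠ 1 := fun e => nz (by
      rw [← eq_of_le_of_card_ge h0 (by rw [hc', ← h3, e, one_mul])]
      exact inf_le_left.trans (inf_le_left.trans c.leS))
    rw [← hc'] at h3
    generalize C1[z'].relIndex T = n at *
    have : n ≤ 4 := by omega
    interval_cases n <;> omega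
  have hp : 0 < Nat.card ↥(T ⊓ C1[z']) := Nat.card_pos
  have hQ0 : Q' ≤ N[T ⊓ C1[z']] := by
    have h1 := pg_lt_inf_normalizer c'.Q2 (lt_of_le_of_ne h0 fun e => by rw [e] at h4 hp; omega)
    have h2 := c'.mod h c'.Q2.to_inf_left (h1.le z0) (zpowers_le.1 (le_normalizer_inf
      (zpowers_le.2 (c'.nQ wz)) (le_normalizer_normalizer (zpowers_le.2 w0))))
    have h3 := pg_mul_card_le_of_lt c'.Q2.to_inf_left h1
    obtain ⟨k, hk⟩ := card_dvd_of_le (inf_le_left : Q' ⊓ N[T ⊓ C1[z']] ≤ Q')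
    have h5 : k = 1 := by
      have : k ≤ 2 := by nlinarith
      interval_cases k <;> omega
    exact inf_eq_left.1 (eq_of_le_of_card_ge inf_le_left (by rw [hk, h5, mul_one]))
  obtain ⟨A, a1, a2, a3, a4, -⟩ := pg_exists_invariant_card_eq c'.Q2 c'.Q2 le_normalizer h0 hQ0 hQ0 1
    (by omega)
  have h16 := reg2 hz' (el_oz (T ⊓ C1[z'])) (hQ0.trans (n_le_oz _)) a2 a4 (Or.inr (by
    have := relIndex_mul_card a2
    rw [a3, h4] at this
    nlinarith)) (A0 := T ⊓ C1[z']) (Or.inr (by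
    have := relIndex_mul_card a1
    rw [a3] at this
    nlinarith)) (le_centralizer_symm (oz_le_c _)) fun x hx => hZ' ⟨h0 hx.1.1, hx.2, hx.1.2.2⟩
  have hzc : z' ∈ C[four z u] := le_c1_iff.1 (hV0.trans inf_le_right)
  have hzn := centralizer_le_normalizer _ hzc
  have hW : four z u ⊔ zpowers z' ≤ oz (T ⊓ C1[z']) := sup_le (fun x hx =>
    ⟨hV0 hx, centralizer_mono inf_le_left (hVT hx), c2.four.mul_self hx⟩)
    (zpowers_le.2 ⟨z0, le_c1_iff.1 inf_le_right, zz'⟩)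
  have h8 := card_sup2 (zz' ▸ one_mem _) hzn hzV
  rw [c2.four.card] at h8
  have hW' : four z u ⊔ zpowers z' = oz (T ⊓ C1[z']) := eq_of_le_of_card_ge hW (by
    have h1 := c'.mod h (el_oz _).pgroup (hW (mem_sup_right (mem_zpowers _))) (n_le_oz _ w0)
    have h2 := card_dvd_of_le hW
    rw [h8] at h2 ⊢
    omega)
  have hzU : z' ∈ U := by
    by_contra hzU
    obtain ⟨x, x1, x2, -, x3⟩ := pg_exists_fixed_mod (el_oz (T ⊓ C1[z'])).pgroup c'.Q2
      (hQ0.trans (n_le_oz _)) (K := zpowers z') (hW' ▸ right_lt_sup.2 fun e => by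
        have := card_le_of_le e
        rw [c2.four.card, card2 hz'] at this
        omega) (((oz_le _).trans inf_le_right).trans (c1_le_nz _)) (c'.Qle.trans (c1_le_nz _))
    have k := fun {a} => comm_conj (a := a) (c'.nQ wz) (c1_le_nz _ wz)
    obtain ⟨v, v1, v2, v3⟩ : ∃ v ∈ four z u, v ≠ 1 ∧ ∀ q ∈ Q', ⁅v, q⁆ ∈ zpowers z' := by
      rcases (mem_sup2 (zz' ▸ one_mem _) hzn).1 (hW' ▸ x1) with e | e
      · exact ⟨x, e, fun e => x2 (e ▸ one_mem _), x3⟩
      · exact ⟨_, e, fun e => x2 (mul_inv_eq_one.1 e ▸ mem_zpowers _), fun q hq =>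
          comm_mul (c1_le_nz _ (oz_le _ x1).2) (x3 q hq)
            (comm_self (inv_mem (mem_zpowers _)) (c1_le_nz _ (c'.Qle hq)))⟩
    have kz : ∀ q ∈ Q', ⁅z, q⁆ ∈ zpowers z' := by
      rcases c2.four.mem_four.1 v1 with rfl | rfl | rfl | rfl
      · exact absurd rfl v2
      · exact v3
      · exact r.h3 ▸ k (r.h2 ▸ k v3)
      · exact r.h3 ▸ k v3
    have ku := r.h1 ▸ k kz
    have d1 : Q' ⊓ C1[z] ≤ C1[u] := fun q hq => by
      rcases (mem_zpowers_two zz').1 (ku q hq.1) with e | e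
      · exact mem_c1.2 (commutatorElement_eq_one_iff_mul_comm.1 e).symm
      · exact absurd (e ▸ comm_self (mem_sup_left (right_mem_four z u)) (hn hq.2)) hzU
    have k' : ∀ {a a'}, Q' ⊓ C1[a] ≤ C1[a'] → Q' ⊓ C1[w * a * w⁻¹] ≤ C1[w * a' * w⁻¹] :=
      fun {a a'} e => by
        rw [c1_conj, c1_conj, ← conj_eq_iff_mem_normalizer.2 (c'.nQ wz), ← conj_inf]
        exact conj_le_conj_iff.2 e
    have d2 := k' d1
    rw [r.h1, r.h2] at d2
    have d3 := k' d2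
    rw [r.h2, r.h3] at d3
    refine nz fun q hq => ?_
    rcases comm_cases zz' (comm_symm (kz q hq)) with e | e
    · exact mem_c1.2 e
    rcases comm_cases zz' (comm_symm (ku q hq)) with e' | e'
    · exact d3 ⟨hq, d2 ⟨hq, mem_c1.2 e'⟩⟩
    · exact d3 ⟨hq, mem_c1_symm (comm_zz zz' (hV0 (left_mem_four z u)).2 e e')⟩
  have e : four z u ⊔ zpowers z' = U := eq_of_le_of_card_ge (sup_le le_sup_left (zpowers_le.2 hzU))
    (by rw [h8, s1.card, c2.four.card])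
  rw [← e]
  exact zpowers_le.1 (le_normalizer_sup (zpowers_le.2 r.mem_norm) (zpowers_le.2 (c1_le_nz _ wz)))

theorem alpha : C[four z u ⊔ zpowers (y * u * y⁻¹)] = four z u ⊔ zpowers (y * u * y⁻¹) ∧
    Nat.card Q = 32 := by
  have c2 := c.s2 h hZ st
  obtain ⟨w, t', r⟩ := c2.exists_w h
  have hw := c.w_nU h hZ hu st t' r
  have hn := c.nU h hu st
  obtain ⟨s1, -, ht⟩ := c.st1 h hu st
  set U := four z u ⊔ zpowers (y * u * y⁻¹) with hU
  have hzU : z ∈ U := mem_sup_left (left_mem_four z u)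
  have huU : u ∈ U := mem_sup_left (right_mem_four z u)
  have hel : El U := s1.el'
  have h8 : Nat.card U = 8 := by rw [s1.card, c2.four.card]
  have orb : {x | ∃ g ∈ N[U], g * z * g⁻¹ = x} = (U : Set G) \ {1} := by
    refine Set.Subset.antisymm ?_ ?_
    · rintro _ ⟨g, hg, rfl⟩
      exact ⟨conj_mem_of_mem_normalizer hg hzU, conj_ne_one c2.four.t_ne⟩
    have k : ∀ {g x}, g ∈ N[U] → (∃ g ∈ N[U], g * z * g⁻¹ = x) → ∃ g' ∈ N[U], g' * z * g'⁻¹ =
        g * x * g⁻¹ := fun {g x} hg ⟨g', h1, h2⟩ => ⟨g * g', mul_mem hg h1, by rw [← h2]; group⟩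
    have p0 : ∃ g ∈ N[U], g * z * g⁻¹ = z := ⟨1, one_mem _, by simp⟩
    have p1 := r.h1 ▸ k hw p0
    have p2 := r.h2 ▸ k hw p1
    have p3 := k (hn c.yz) p1
    have ez : ∀ x, y * (z * x) * y⁻¹ = z * (y * x * y⁻¹) := fun x => by
      conv_rhs => rw [← conj_eq_of_c1 c.yz]
      group
    have p4 := ez u ▸ k (hn c.yz) p2
    have p5 := k (hn c.yz) p3
    have p6 := ez _ ▸ k (hn c.yz) p4
    have q2 := inv2 (conj_sq (g := y) s1.sq)
    have e3 : u * (y * u * y⁻¹) = y * (y * u * y⁻¹) * y⁻¹ ∨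
        u * (y * u * y⁻¹) = z * (y * (y * u * y⁻¹) * y⁻¹) := by
      rcases (mem_zpowers_two c.zz).1 ht with e | e
      · left; rw [← q2]; exact eq_inv_of_mul_eq_one_left e
      · right; rw [← q2]; exact eq_mul_inv_of_mul_eq e
    rintro x ⟨h1, h2⟩
    rcases s1.mem.1 h1 with e | e
    · rcases c2.four.mem_four.1 e with rfl | rfl | rfl | rfl
      exacts [absurd rfl h2, p0, p1, p2]
    · have e' : x = x * (y * u * y⁻¹) * (y * u * y⁻¹) := by rw [mul_assoc, s1.sq, mul_one]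
      rw [e']
      rcases c2.four.mem_four.1 e with e | e | e | e <;> rw [e]
      · rwa [one_mul]
      · exact p4
      · rcases e3 with e | e <;> rwa [e]
      · rw [mul_assoc]
        rcases e3 with e | e <;> rw [e]
        · exact p6
        · rwa [← mul_assoc, c.zz, one_mul]
  obtain ⟨k, hk, hk'⟩ := c.card_c1 h
  have hJ : Nat.card N[U] = 7 * (6 * 2 ^ k) := by
    rw [← ncard_conj_mul' N[U] z, orb, inf_eq_right.2 hn, hk' z c.hz,
      Set.ncard_diff_singleton_of_mem (one_mem U), show (U : Set G).ncard = 8 from h8]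
  haveI : Fact (Nat.Prime 7) := ⟨by norm_num⟩
  obtain ⟨ρ, hρ, h7⟩ := sm_exists_mem_orderOf_eq (p := 7) (by norm_num) N[U] (by rw [hJ]; simp)
  have c7 : Nat.card (zpowers ρ) = 7 := by rw [Nat.card_zpowers, h7]
  have hR : IsSylowIn 7 (zpowers ρ) N[U] := IsSylowIn.of_not_dvd_relIndex (zpowers_le.2 hρ)
    (isPGroup_of_card_eq_prime c7) (by
      have := relIndex_mul_card (zpowers_le.2 hρ)
      rw [c7, hJ, mul_comm] at this
      rw [Nat.eq_of_mul_eq_mul_left (by norm_num) this, (Fact.out : Nat.Prime 7).dvd_mul]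
      rintro (e | e)
      · omega
      · have := (Fact.out : Nat.Prime 7).dvd_of_dvd_pow e
        omega)
  have h3 : 3 ∣ Nat.card ↥(N[U] ⊓ N[zpowers ρ]) := by
    by_contra h3
    have h1 := syl_mod hR
    have h2 := GW.relIndex_mul_card_inf N[zpowers ρ] N[U]
    obtain ⟨e, he⟩ := card_dvd_of_le (le_inf (zpowers_le.2 hρ) le_normalizer :
      zpowers ρ ≤ N[U] ⊓ N[zpowers ρ])
    obtain ⟨m, hm⟩ : 3 ∣ N[zpowers ρ].relIndex N[U] :=
      (Nat.prime_three.dvd_mul.1 (h2 ▸ hJ ▸ by omega)).resolve_right h3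
    rw [hm, he, c7, hJ] at h2
    obtain ⟨j, -, rfl⟩ := (Nat.dvd_prime_pow Nat.prime_two (m := k + 1)).1 (⟨e, by
      rw [pow_succ]; nlinarith⟩ : m ∣ 2 ^ (k + 1))
    exact two_pow_mod7 j (hm ▸ h1)
  obtain ⟨y1, hy1, o1⟩ := sm_exists_mem_orderOf_eq Nat.prime_three _ h3
  have hC2 : IsPGroup 2 C[U] := c.two_of h c.hz (centralizer_le_singleton hzU)
    (h.four_not_dvd c2.four (le_inf (centralizer_le_singleton hzU) (centralizer_le_singleton huU)))
  have hcop : (Nat.card (zpowers ρ)).Coprime 6 := by rw [c7]; norm_num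
  obtain ⟨z1, hz1, e1⟩ := ((h.mod_cases o1 hel.pgroup hy1.1).resolve_left fun e => by omega).2
  have hz1' : z1 ∈ U ⊓ C1[y1] := e1 ▸ mem_zpowers z1
  have hF : IsFrob (zpowers ρ) (zpowers y1) := isFrob_of_prime (ne_bot_of_card_prime
    (c7 ▸ Fact.out)) (zpowers_le.2 hy1.2) (by rw [card3 o1]; norm_num) (eq_bot_iff.2 fun x hx => by
      by_contra e
      have h1 : x ∈ C1[z1] := c1_of_nz hz1 (e1 ▸ zpowers_le.1 (le_normalizer_inf
        (zpowers_le.2 (zpowers_le.2 hρ hx.1)) (zpowers_le.2 (c1_le_nc _ (C_zpowers y1 ▸ hx.2)))))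
      exact ne_one2 hz1 ((c.fpf h hcop hel.pgroup).eq_one hx.1 e hz1'.1 (mem_c1.1 h1)))
  have h9 := pf9_1c hF (isSolvable_of_isPGroup hC2) ((sup_le (zpowers_le.2 hρ)
    (zpowers_le.2 hy1.1)).trans (normalizer_le_normalizer_centralizer U)) (by
      obtain ⟨j, e⟩ := hC2.exists_card_eq
      rw [hF.card_sup, c7, card3 o1, e]
      exact Nat.Coprime.pow_right _ (by norm_num))
    ((c.fpf h hcop hC2).inf_centralizer le_rfl hF.neK)
  rw [C_zpowers, h.fix2' hz1 o1 (mem_c1_symm hz1'.2) hC2 (hel.le_c hz1'.1), card2 hz1,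
    card3 o1] at h9
  have hCU : C[U] = U := (eq_of_le_of_card_ge hel.le_c (by omega)).symm
  refine ⟨hCU, ?_⟩
  have hUQ : U ≤ Q := sup_le (four_le_iff.2 ⟨c.zQ, hu⟩)
    (zpowers_le.2 (conj_mem_of_mem_normalizer (c.nQ c.yz) hu))
  have co : ∀ q ∈ Q, ⁅u, q⁆ ∈ zpowers z := fun q hq => st.co q (mem_sup_left hq)
  have h1 := relIndex_c1_dvd c.zz co
  have h2 := relIndex_c1_dvd (X := Q ⊓ C1[u]) c.zz fun q hq =>
    comm_conj (c.nQ c.yz) (c1_le_nz z c.yz) co q hq.1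
  have h4 := GW.relIndex_mul_card_inf C1[u] Q
  have h5 := GW.relIndex_mul_card_inf C1[y * u * y⁻¹] (Q ⊓ C1[u])
  have h6 := card_le_of_le (show Q ⊓ C1[u] ⊓ C1[y * u * y⁻¹] ≤ U from fun x hx =>
    hCU ▸ c_sup (c_sup (C_zpowers z ▸ c.Qle hx.1.1) hx.1.2) hx.2)
  have h10 := card_dvd_of_le hUQ
  rw [h8] at h10 h6
  have h11 := c.modQ h
  have h12 : Nat.card Q ≠ 8 := fun e => by
    have e' := eq_of_le_of_card_ge hUQ (by omega)
    exact st.nm (c.ozQ h hZ ⟨hu, e' ▸ hel.le_c huU, st.sq⟩)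
  rcases h1 with e | e <;> rcases h2 with e' | e' <;> rw [e] at h4 <;> rw [e'] at h5 <;> omega

end CB

end Cfsg.Lib.Six
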