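import Cfsg.Agent.Lib.Six.Stop
import Cfsg.Agent.Lib.Big.CoreKill

/-!
# Case B: basics
-/

set_option autoImplicit false

namespace Cfsg.Lib.Six
open Subgroup Cfsg Cfsg.Lib Cfsg.Lib.FT Cfsg.Lib.GW
open scoped commutatorElement

variable {G : Type*} [Group G]

theorem inv_mul_inv3 {y : G} (hy : orderOf y = 3) : y⁻¹ * y⁻¹ = y := by
  rw [← mul_inv_rev, inv_eq_iff_mul_eq_one, ← pow_three', cube3 hy]

theorem Tri.conj2 {S R B : Subgroup G} {w a s : G} (h : Tri S R w) (hS : S ≤ N[B]) (hB : w ∈ N[B])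
    (hc : ∀ r ∈ S, ⁅a, r⁆ ∈ B) (hs : s ∈ S) (e : s * w * s⁻¹ * w ∈ R) :
    s * (w * a * w⁻¹) * s⁻¹ * (w * (w * a * w⁻¹) * w⁻¹)⁻¹ ∈ B := by
  have h2 := comm_conj h.nR hB (comm_conj h.nR hB fun r hr => hc r (h.le hr))
  have e1 : w * (w * a * w⁻¹) * w⁻¹ = w⁻¹ * a * w := by
    conv_rhs => rw [← conj3 h.hw a]
    group
  have := mul_mem (conj_mem_of_mem_normalizer (hS (h.le e))
    (conj_mem_of_mem_normalizer' hB (comm_symm (hc s hs)))) (comm_symm (h2 _ e))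
  rw [e1] at this ⊢
  convert this using 1
  simp only [commutatorElement_def]; group

variable [Finite G]

namespace CB
variable {z y b : G} {Q O : Subgroup G} (c : CB z y b Q O)
include c

theorem Q2 : IsPGroup 2 Q := c.eQ ▸ isPGroup_piCoreOf_singleton 2 _

omit [Finite G] in
theorem Qle : Q ≤ C1[z] := c.eQ ▸ piCoreOf_le _ _

omit [Finite G] in
theorem nQ : C1[z] ≤ N[Q] := c.eQ ▸ le_normalizer_piCoreOf _ _

omit [Finite G] in
theorem zz : z * z = 1 := mul_self2 c.hz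

theorem zQ : z ∈ Q := c.eQ ▸ zpowers_le.1 (le_piCoreOf_singleton (zpowers_le.2 (self_mem_c1 z))
  (c1_le_nz z) (isPGroup_zpowers_two c.zz))

theorem yQ : y ∉ Q := fun e => not3_of_two c.Q2 (c.hy ▸ Subgroup.orderOf_dvd_natCard _ e)

theorem bQ : b ∉ Q := fun e => c.yQ (by
  have := mul_mem e (conj_mem_of_mem_normalizer (c.nQ c.yz) (inv_mem e))
  rwa [← mul_assoc, ← mul_assoc, c.inv, inv_mul_inv3 c.hy] at this)

theorem bbQ : b * b ∈ Q := zpowers_le.2 c.zQ c.bb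

theorem memS {s : G} : s ∈ Q ⊔ zpowers b ↔ s ∈ Q ∨ s * b⁻¹ ∈ Q := mem_sup2 c.bbQ (c.nQ c.bz)

theorem cardS : Nat.card ↥(Q ⊔ zpowers b) = 2 * Nat.card Q := card_sup2 c.bbQ (c.nQ c.bz) c.bQ

omit [Finite G] in
theorem leS : Q ⊔ zpowers b ≤ C1[z] := sup_le c.Qle (zpowers_le.2 c.bz)

theorem relS : Q.relIndex (Q ⊔ zpowers b) = 2 := by
  have := relIndex_mul_card (le_sup_left : Q ≤ Q ⊔ zpowers b)
  rw [c.cardS] at this
  exact Nat.eq_of_mul_eq_mul_right Nat.card_pos this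

theorem syl0 : IsSylowIn 2 (Q ⊔ zpowers b) C1[z] := by
  obtain ⟨k, hk⟩ := c.Q2.exists_card_eq
  refine IsSylowIn.of_not_dvd_relIndex c.leS (isPGroup_of_card_eq (n := k + 1)
    (by rw [c.cardS, hk, pow_succ'])) ?_
  have := relIndex_mul_card c.leS
  rw [c.cardS, c.card, show 6 * Nat.card Q * Nat.card O = 3 * Nat.card O * (2 * Nat.card Q) by ring]
    at this
  rw [Nat.eq_of_mul_eq_mul_right (Nat.mul_pos two_pos Nat.card_pos) this]
  exact not_two_dvd (Odd.mul (by decide) c.oO)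

theorem syl (h : Hyp G) : IsSylowIn 2 (Q ⊔ zpowers b) ⊤ := h.oc.isSylowIn_top c.hz c.syl0

theorem tw {s : G} (hs : s * b⁻¹ ∈ Q) : s * y * s⁻¹ * y ∈ Q := by
  have := mul_mem hs (conj_mem_of_mem_normalizer' (c.nQ c.yz) (inv_mem hs))
  rwa [show s * b⁻¹ * (y⁻¹ * (s * b⁻¹)⁻¹ * y) = s * b⁻¹ * y⁻¹ * (s * b⁻¹)⁻¹ * y by group, ← c.inv,
    show s * b⁻¹ * (b * y * b⁻¹) * (s * b⁻¹)⁻¹ = s * y * s⁻¹ by group] at this

theorem tri : Tri (Q ⊔ zpowers b) Q y :=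
  ⟨c.hy, c.syl0.isPGroup, le_sup_left, c.nQ c.yz, fun s hs => (c.memS.1 hs).imp (fun e => by
    simpa [mul_assoc] using mul_mem e (conj_mem_of_mem_normalizer (c.nQ c.yz) (inv_mem e))) c.tw⟩

theorem fix (h : Hyp G) : Q ⊓ C1[y] = zpowers z := h.fix2' c.hz c.hy c.yz c.Q2 c.zQ

theorem mod (h : Hyp G) {D : Subgroup G} (hD : IsPGroup 2 D) (hz : z ∈ D) (hn : y ∈ N[D]) :
    Nat.card D % 3 = 2 := by
  rw [card_mod3 c.hy hn, h.fix2' c.hz c.hy c.yz hD hz, card2 c.hz]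

theorem modQ (h : Hyp G) : Nat.card Q % 3 = 2 := c.mod h c.Q2 c.zQ (c.nQ c.yz)

theorem le_Q (h : Hyp G) {D : Subgroup G} (hD : IsPGroup 2 D) (hle : D ≤ C1[z]) (hn : y ∈ N[D]) :
    D ≤ Q := by
  have h1 : IsPGroup 2 ↥(D ⊔ Q) := hD.to_sup_of_normal_right' c.Q2 (hle.trans c.nQ)
  have h2 := c.mod h h1 (mem_sup_right c.zQ) (zpowers_le.1
    (le_normalizer_sup (zpowers_le.2 hn) (zpowers_le.2 (c.nQ c.yz))))
  have h3 := c.syl0.card_dvd h1 (sup_le hle c.Qle)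
  have h4 := relIndex_mul_card (le_sup_right : Q ≤ D ⊔ Q)
  have h5 := c.modQ h
  rw [c.cardS, ← h4] at h3
  rcases (Nat.dvd_prime Nat.prime_two).1 (Nat.dvd_of_mul_dvd_mul_right Nat.card_pos h3) with e | e
  · exact le_sup_left.trans (relIndex_eq_one.1 e)
  · rw [e] at h4; omega

omit [Finite G] in
theorem conj (g : G) : CB (g * z * g⁻¹) (g * y * g⁻¹) (g * b * g⁻¹) (g •ᶜ Q) (g •ᶜ O) := by
  refine ⟨(sm_orderOf_conj _ _).trans c.hz, (sm_orderOf_conj _ _).trans c.hy,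
    c1_conj g z ▸ conj_mem_conj c.yz g, c1_conj g z ▸ conj_mem_conj c.bz g, ?_, ?_, ?_,
    by rw [card_map_conj]; exact c.oO, c1_conj g z ▸ conj_le_conj_iff.2 c.leO, ?_, fun x hx => ?_,
    ?_, ?_⟩
  · calc _ = g * (b * y * b⁻¹) * g⁻¹ := by group
      _ = _ := by rw [c.inv]; group
  · rw [← conj_zpowers, show g * b * g⁻¹ * (g * b * g⁻¹) = g * (b * b) * g⁻¹ by group]
    exact conj_mem_conj c.bb g
  · rw [c1_conj, piCoreOf_conj, c.eQ]
  · rw [c1_conj, ← conj_normalizer]; exact conj_le_conj_iff.2 c.nO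
  · rw [c1_conj] at hx
    obtain ⟨x, hx, rfl⟩ := hx
    obtain ⟨q, h1, o, h2, i, h3, e⟩ := c.dec x hx
    refine ⟨_, conj_mem_conj h1 g, _, conj_mem_conj h2 g, _, conj_zpowers g y ▸ conj_mem_conj h3 g,
      e.imp (fun e => ?_) fun e => ?_⟩ <;> simp [e, mul_assoc]
  · rw [c1_conj, card_map_conj, card_map_conj, card_map_conj, c.card]
  · rw [c1_conj]
    haveI := c.solv
    exact solvable_of_surjective (f := (MulAut.conj g).toMonoidHom.subgroupMap C1[z])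
      (MonoidHom.subgroupMap_surjective _ _)

theorem all (h : Hyp G) {z' w : G} (hz : orderOf z' = 2) (hw : orderOf w = 3) (hc : w ∈ C1[z']) :
    ∃ g, g * z * g⁻¹ = z' ∧ g * y * g⁻¹ = w := by
  obtain ⟨g, rfl⟩ := h.oc.exists_conj c.hz hz
  have c' := c.conj g
  obtain ⟨k, hk, e⟩ := (h.syl3 hz hw hc).exists_conj_le (pgroup3 c'.hy) (zpowers_le.2 c'.yz)
  rcases (mem_zpowers3 (cube3 hw)).1 (e (conj_mem_conj (mem_zpowers _) k)) with e | e | e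
  · exact absurd e (conj_ne_one (ne_one3 c'.hy))
  · exact ⟨k * g, by rw [← conj_eq_of_c1 hk]; group, by rw [← e]; group⟩
  · refine ⟨k * g * b, ?_, ?_⟩
    · calc _ = k * (g * (b * z * b⁻¹) * g⁻¹) * k⁻¹ := by group
        _ = _ := by rw [conj_eq_of_c1 c.bz, conj_eq_of_c1 hk]
    · calc _ = k * g * (b * y * b⁻¹) * (k * g)⁻¹ := by group
        _ = (k * (g * y * g⁻¹) * k⁻¹)⁻¹ := by rw [c.inv]; group
        _ = w := by rw [e, inv_inv]

theorem ozQ (h : Hyp G) (hZ : oz (Q ⊔ zpowers b) ≤ zpowers z) : oz Q ≤ zpowers z := by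
  have h1 := reg (el_oz Q) ((c.leS.trans c.nQ).trans (n_le_oz Q)) (Or.inr c.relS)
    (le_centralizer_symm (oz_le_c Q))
  have h2 := card2 c.hz ▸ card_le_of_le (show oz Q ⊓ C[Q ⊔ zpowers b] ≤ zpowers z from
    fun x hx => hZ ⟨mem_sup_left hx.1.1, hx.2, hx.1.2.2⟩)
  have h3 : z ∈ oz Q := ⟨c.zQ, le_c1_iff.1 c.Qle, c.zz⟩
  have h4 := c.mod h (el_oz Q).pgroup h3 (n_le_oz Q (c.nQ c.yz))
  have h5 := h1.trans (Nat.pow_le_pow_left h2 2)
  exact (eq_of_le_of_card_ge (zpowers_le.2 h3) (by rw [card2 c.hz]; omega)).ge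

theorem st1 (h : Hyp G) {u : G} (hu : u ∈ Q) (st : St (Q ⊔ zpowers b) (zpowers z) u) :
    St (Q ⊔ zpowers b) (four z u) (y * u * y⁻¹) ∧ y ∈ N[four z u ⊔ zpowers (y * u * y⁻¹)] ∧
      u * (y * u * y⁻¹) * (y * (y * u * y⁻¹) * y⁻¹) ∈ zpowers z :=
  step c.tri st (c1_le_nz z c.yz) hu fun _ h1 h2 _ _ => (c.fix h).le ⟨h1, h2⟩

theorem cU (h : Hyp G) {u : G} (hu : u ∈ Q) (st : St (Q ⊔ zpowers b) (zpowers z) u) {s : G}
    (hs : s ∈ Q ⊔ zpowers b) (hc : s ∈ C1[y * u * y⁻¹]) : s ∈ Q := by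
  refine (c.memS.1 hs).resolve_right fun e => (c.st1 h hu st).1.nm ?_
  have h1 := conj_mem_of_mem_normalizer' (c1_le_nz z c.yz)
    (c.tri.conj2 st.nS (c1_le_nz z c.yz) st.co hs (c.tw e))
  rw [conj_eq_of_c1 hc] at h1
  have := mul_mem (inv_mem (mem_sup_left h1)) (right_mem_four z u)
  rwa [show (y⁻¹ * (y * u * y⁻¹ * (y * (y * u * y⁻¹) * y⁻¹)⁻¹) * y)⁻¹ * u = y * u * y⁻¹ by group] at this

theorem core [IsSimpleGroup G] (hG : ¬ IsMulCommutative G) (h : Hyp G) {u : G} (hu : u ∈ Q)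
    (st : St (Q ⊔ zpowers b) (zpowers z) u) : O = ⊥ := by
  have s1 := (c.st1 h hu st).1
  have h1 := Big.core_eq_bot_of_solvable hG (fun hr => not_pRankLE_of_card_eq (k := 2) le_top
    s1.el'.elemAb (by rw [s1.card, show four z u = zpowers z ⊔ zpowers u from rfl, st.card, card2 c.hz]; rfl)
    (pRankLE_top_iff.2 hr)) (fun t ht => by
      obtain ⟨g, rfl⟩ := h.oc.exists_conj c.hz ht
      exact isPConstrained_of_isSolvable (c.conj g).solv) c.hz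
  rw [centralizerPPrimeCore, ← piCoreOf_compl_singleton] at h1
  exact eq_bot_iff.2 (h1 ▸ le_oc c.leO c.nO c.oO)

end CB

end Cfsg.Lib.Six
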