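import Cfsg.Agent.Lib.Six.Struct

/-!
# Case A with non-cyclic centre of the Sylow 2-subgroup
-/

set_option autoImplicit false

namespace Cfsg.Lib.Six
open Subgroup Cfsg Cfsg.Lib Cfsg.Lib.FT Cfsg.Lib.GW

variable {G : Type*} [Group G]

theorem comm_c {S : Subgroup G} {x s : G} (hx : x ∈ C[S]) (hs : s ∈ S) : s * x = x * s :=
  mem_centralizer_iff.1 hx s hs

/-- the central elements of order at most two -/
def oz (S : Subgroup G) : Subgroup G where
  carrier := {x | x ∈ S ∧ x ∈ C[S] ∧ x * x = 1}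
  one_mem' := ⟨one_mem _, one_mem _, mul_one 1⟩
  mul_mem' {a b} ha hb := ⟨mul_mem ha.1 hb.1, mul_mem ha.2.1 hb.2.1, by
    rw [mul_assoc, ← mul_assoc b, comm_c ha.2.1 hb.1, mul_assoc, hb.2.2, mul_one, ha.2.2]⟩
  inv_mem' {a} ha := by rwa [inv2 ha.2.2]

theorem mem_oz {S : Subgroup G} {x : G} : x ∈ oz S ↔ x ∈ S ∧ x ∈ C[S] ∧ x * x = 1 := Iff.rfl

theorem oz_le (S : Subgroup G) : oz S ≤ S := fun _ h => h.1

theorem oz_le_c (S : Subgroup G) : oz S ≤ C[S] := fun _ h => h.2.1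

theorem conj_sq {g x : G} (h : x * x = 1) : g * x * g⁻¹ * (g * x * g⁻¹) = 1 := by
  calc _ = g * (x * x) * g⁻¹ := by group
    _ = 1 := by rw [h]; group

theorem n_le_oz [Finite G] (S : Subgroup G) : N[S] ≤ N[oz S] := fun _ hg =>
  pg_mem_normalizer_of_conj_mem fun _ hx => ⟨conj_mem_of_mem_normalizer hg hx.1,
    conj_mem_of_mem_normalizer (normalizer_le_normalizer_centralizer S hg) hx.2.1, conj_sq hx.2.2⟩

theorem c1_of_nz {a g : G} (ha : orderOf a = 2) (h : g ∈ N[zpowers a]) : g ∈ C1[a] := by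
  rcases (mem_zpowers_two (mul_self2 ha)).1 (conj_mem_of_mem_normalizer h (mem_zpowers a)) with e | e
  · exact absurd e (conj_ne_one (ne_one2 ha))
  · exact mem_c1_of_conj e

variable [Finite G]

theorem mem_syl {S X : Subgroup G} (hS : IsSylowIn 2 S X) {a : G} (ha : a * a = 1) (hX : a ∈ X)
    (h : a ∈ N[S]) : a ∈ S :=
  zpowers_le.1 (hS.le_of_le_normalizer (isPGroup_zpowers_two ha) (zpowers_le.2 hX) (zpowers_le.2 h))

theorem fuse_oz (hc : OneClass G) {S : Subgroup G} (hS : IsSylowIn 2 S ⊤) {a b : G}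
    (ha : orderOf a = 2) (hb : orderOf b = 2) (h1 : a ∈ C[S]) (h2 : b ∈ C[S]) :
    ∃ n ∈ N[S], n * a * n⁻¹ = b := by
  obtain ⟨g, rfl⟩ := hc.exists_conj ha hb
  obtain ⟨n, hn, c, hc, rfl⟩ := exists_normalizer_mul_centralizer hS (X := zpowers a) (mem_top g)
    (le_centralizer_symm (zpowers_le.2 h1)) (by
      rw [conj_zpowers]; exact le_centralizer_symm (zpowers_le.2 h2))
  refine ⟨n, hn.2, ?_⟩
  have := conj_eq_of_c1 (C_zpowers a ▸ hc.2)
  calc _ = n * (c * a * c⁻¹) * n⁻¹ := by rw [this]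
    _ = _ := by group

theorem odd_pow_inv {n y : G} (h : n * y * n⁻¹ = y⁻¹) {k : ℕ} (hk : Odd k) :
    n ^ k * y * (n ^ k)⁻¹ = y⁻¹ := by
  obtain ⟨j, rfl⟩ := hk
  have h2 : n * n * y * (n * n)⁻¹ = y := by
    calc _ = n * (n * y * n⁻¹) * n⁻¹ := by group
      _ = n * y⁻¹ * n⁻¹ := by rw [h]
      _ = (n * y * n⁻¹)⁻¹ := by group
      _ = y := by rw [h, inv_inv]
  have h3 := conj_eq_of_c1 (mem_c1_symm (inv_mem (mem_c1_symm
    (pow_mem (mem_c1_of_conj h2) j))))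
  rw [pow_succ, pow_mul, pow_two]
  calc _ = (n * n) ^ j * (n * y * n⁻¹) * ((n * n) ^ j)⁻¹ := by group
    _ = _ := by rw [h, h3]

namespace CA
variable {z y : G} {S : Subgroup G} (c : CA z y S)
include c

theorem zc : z ∈ C[S] := le_c1_iff.1 c.le

theorem zS : z ∈ S := mem_syl c.syl (mul_self2 c.hz) (mem_top z) (centralizer_le_normalizer _ c.zc)

theorem fix (h : Hyp G) : S ⊓ C1[y] = zpowers z := h.fix2' c.hz c.hy c.yz c.syl.isPGroup c.zS

theorem n_c1 (h : Hyp G) {g : G} (h1 : g ∈ N[S]) (h2 : g ∈ N[zpowers y]) : g ∈ C1[z] := by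
  refine c1_of_nz c.hz ?_
  rw [← c.fix h, ← C_zpowers]
  exact zpowers_le.1 (le_normalizer_inf (zpowers_le.2 h1)
    (le_normalizer_centralizer (zpowers_le.2 h2)))

theorem n_cy {g : G} (h1 : g ∈ N[S]) (h2 : g ∈ N[zpowers y]) : g ∈ C1[y] := by
  by_contra e
  have h3 := inv_of_norm c.hy h2 e
  have hS := c.syl.mono le_normalizer (le_top (a := N[S]))
  have h4 : g ^ S.relIndex N[S] ∈ S := FT.pow_relIndex_mem le_rfl h1
  have h5 := odd_pow_inv h3 (Nat.odd_iff.2 (by have := hS.not_dvd_relIndex; omega) :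
    Odd (S.relIndex N[S]))
  have h6 := mul_mem h4 (conj_mem_of_mem_normalizer c.norm (inv_mem h4))
  rw [← mul_assoc, ← mul_assoc, h5] at h6
  have h7 : y⁻¹ * y⁻¹ = y := by
    rw [← mul_inv_rev, inv_eq_iff_mul_eq_one, ← pow_three', cube3 c.hy]
  rw [h7] at h6
  exact not3_of_two c.syl.isPGroup (c.hy ▸ Subgroup.orderOf_dvd_natCard _ h6)

theorem comm (h : Hyp G) {u : G} (hu : u ∈ oz S) (h1 : u ≠ 1) (h2 : u ≠ z) : IsMulCommutative S := by
  have hP := c.syl.isPGroup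
  obtain ⟨K0, hK0, hK2⟩ := exists_isComplIn_normalizer c.syl
  rw [top_inf_eq] at hK0
  obtain ⟨n, hn, e⟩ := (copAct3 c.hy (not3_of_two hP) c.norm).exists_conj_le hK0.le_left
    (by rw [sup_comm, hK0.sup_eq]; exact zpowers_le.2 c.norm)
  have hK1 := hK0.conj_left (inv_mem (le_normalizer hn)) (inv_mem (le_normalizer hn))
  set K1 := n⁻¹ •ᶜ K0
  have hyK : y ∈ K1 := zpowers_le.1 (map_conj_le_iff.1 e)
  have hK1o : ¬ 2 ∣ Nat.card K1 := by rwa [card_map_conj]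
  have hsyl : IsSylowIn 3 (zpowers y) K1 := isSylowIn_of_c1 c.hy hyK fun g h3 h4 h5 =>
    h.three c.hz c.hy c.yz (c.n_c1 h (hK1.le_left h3) (c1_le_nz y h4)) h4
      (odd_orderOf (odd_of_isPGroup (by norm_num) h5) (mem_zpowers g))
  have hB := bg1_18' hsyl fun g hg => C_zpowers y ▸ c.n_cy (hK1.le_left hg.1) hg.2
  set K := piCoreOf {3}ᶜ K1
  have hKle : K ≤ K1 := piCoreOf_le _ _
  have hKn : K1 ≤ N[K] := le_normalizer_piCoreOf _ _
  have hK3 : ¬ 3 ∣ Nat.card K := not_dvd_card_piCoreOf Nat.prime_three (by simp) _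
  have hKy : K ⊓ C[zpowers y] = ⊥ := eq_bot_iff.2 fun g hg => by
    have h4 : g ∈ C1[y] := C_zpowers y ▸ hg.2
    rcases h.two c.hz c.hy c.yz (c.n_c1 h (hK1.le_left (hKle hg.1)) (c1_le_nz y h4)) h4
      fun e => hK3 (e.trans (Subgroup.orderOf_dvd_natCard _ hg.1)) with e | e
    · exact e
    · exact absurd (c.hz ▸ e ▸ Subgroup.orderOf_dvd_natCard _ (hKle hg.1)) hK1o
  have hzK : z ∉ C[K] := fun e => by
    obtain ⟨m, hm, e'⟩ := fuse_oz h.oc c.syl c.hz (ord2 h1 hu.2.2) c.zc hu.2.1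
    refine h2 (e'.symm.trans (conj_eq_of_c1 (hK1.le_of_le (hB.le_of_le (le_c1_iff.2 e)
      (zpowers_le.2 c.yz)) c.le hm)))
  have hF : IsFrob K (zpowers y) := isFrob_of_prime (fun e => hzK (by
    rw [e]; exact le_c1_iff.1 bot_le)) (zpowers_le.2 (hKn hyK)) (by rw [card3 c.hy]; norm_num) hKy
  have hcop : ∀ {V : Subgroup G}, V ≤ S → (Nat.card K1).Coprime (Nat.card V) := fun {V} hV => by
    obtain ⟨k, e⟩ := (hP.to_le hV).exists_card_eq
    rw [e]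
    exact Nat.Coprime.pow_right _ ((Nat.prime_two.coprime_iff_not_dvd.2 hK1o).symm)
  have hzo : z ∈ oz S := ⟨c.zS, c.zc, mul_self2 c.hz⟩
  have hOK : oz S ⊓ C[K] = ⊥ := eq_bot_iff.2 fun a ha => by
    by_contra e
    obtain ⟨m, hm, e'⟩ := fuse_oz h.oc c.syl (ord2 e ha.1.2.2) c.hz ha.1.2.1 c.zc
    obtain ⟨k, hk, s, hs, rfl⟩ := hK1.exists_mul hm
    have h3 : s * a * s⁻¹ = a := by rw [comm_c ha.1.2.1 hs, mul_inv_cancel_right]
    refine hzK ?_
    rw [← e', show k * s * a * (k * s)⁻¹ = k * (s * a * s⁻¹) * k⁻¹ by group, h3]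
    exact conj_mem_of_mem_normalizer (normalizer_le_normalizer_centralizer K (hKn hk)) ha.2
  have h8 := pf9_1c hF (isSolvable_of_isPGroup (hP.to_le (oz_le S)))
    (hB.sup_eq ▸ hK1.le_left.trans (n_le_oz S)) (hB.sup_eq ▸ hcop (oz_le S)) hOK
  rw [C_zpowers, h.fix2' c.hz c.hy c.yz (hP.to_le (oz_le S)) hzo, card2 c.hz, card3 c.hy] at h8
  have h9 := pf9_1 hF (isSolvable_of_isPGroup hP) (hB.sup_eq ▸ hK1.le_left) (hB.sup_eq ▸ hcop le_rfl)
  have h10 : S ⊓ C[K ⊔ zpowers y] = ⊥ := eq_bot_iff.2 fun a ha => by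
    have h3 : a ∈ zpowers z := c.fix h ▸ ⟨ha.1, C_zpowers y ▸ centralizer_mono le_sup_right ha.2⟩
    rcases (mem_zpowers_two (mul_self2 c.hz)).1 h3 with e | e
    · exact e
    · exact absurd (e ▸ centralizer_mono le_sup_left ha.2) hzK
  rw [h10, card_bot, C_zpowers, c.fix h, card2 c.hz, card3 c.hy] at h9
  have h11 : IsComplIn (oz S) (S ⊓ C[K]) S := isComplIn_of_card_le (oz_le S) inf_le_left
    (eq_bot_iff.2 fun a ha => hOK ▸ ⟨ha.1, ha.2.2⟩) (by rw [h8]; omega)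
  have h12 : S ⊓ C[K] = ⊥ := by
    by_contra e
    obtain ⟨a, h3, h4, h5⟩ := pg_exists_fixed_of_order_p hP.to_inf_left hP.to_inf_left le_normalizer e
    refine ne_one2 h4 (h11.eq_one ⟨h3.1, le_c1_iff.1 (h11.le_of_le (le_c1_iff.2
      (le_centralizer_symm (oz_le_c S) h3.1)) (le_c1_iff.2 h5)), mul_self2 h4⟩ h3)
  exact isMulCommutative_iff_le_centralizer.2 ((h11.eq_bot_iff.1 h12).ge.trans (oz_le_c S))

end CA

end Cfsg.Lib.Six
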