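import Cfsg.Agent.Lib.Six.CaseIA

/-!
# Chains of elementary abelian normal subgroups
-/

set_option autoImplicit false

namespace Cfsg.Lib.Six
open Subgroup Cfsg Cfsg.Lib Cfsg.Lib.FT Cfsg.Lib.GW
open scoped commutatorElement

variable {G : Type*} [Group G]

/-- elementary abelian 2-subgroups -/
def El (B : Subgroup G) : Prop := ∀ x ∈ B, x * x = 1

theorem comm_of_sq {a b : G} (ha : a * a = 1) (hb : b * b = 1) (h : a * b * (a * b) = 1) :
    a * b = b * a := by rw [← inv2 h, mul_inv_rev, inv2 ha, inv2 hb]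

theorem El.comm {B : Subgroup G} (h : El B) {a b : G} (ha : a ∈ B) (hb : b ∈ B) : a * b = b * a :=
  comm_of_sq (h a ha) (h b hb) (h _ (mul_mem ha hb))

theorem El.le_c {B : Subgroup G} (h : El B) : B ≤ C[B] := fun _ ha =>
  mem_centralizer_iff.2 fun _ hb => h.comm hb ha

theorem El.mono {B B' : Subgroup G} (h : El B) (hle : B' ≤ B) : El B' := fun x hx => h x (hle hx)

theorem El.pgroup {B : Subgroup G} (h : El B) : IsPGroup 2 B := fun x =>
  ⟨1, Subtype.ext (by simpa [pow_two] using h x x.2)⟩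

theorem El.elemAb {B : Subgroup G} (h : El B) : IsElementaryAbelian 2 B :=
  ⟨isMulCommutative_of_forall fun _ ha _ hb => h.comm ha hb, fun x hx =>
    (pow_two x).trans (h x hx)⟩

theorem el_zpowers {z : G} (hz : z * z = 1) : El (zpowers z) := fun x hx => by
  rcases (mem_zpowers_two hz).1 hx with rfl | rfl
  exacts [mul_one 1, hz]

theorem el_oz (S : Subgroup G) : El (oz S) := fun _ h => h.2.2

theorem mem_sup2 {B : Subgroup G} {a x : G} (ha : a * a ∈ B) (hn : a ∈ N[B]) :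
    x ∈ B ⊔ zpowers a ↔ x ∈ B ∨ x * a⁻¹ ∈ B := by
  constructor
  · intro hx
    obtain ⟨b, hb, c, hc, rfl⟩ := (mem_sup_of_le_normalizer (zpowers_le.2 hn)).1 hx
    obtain ⟨k, rfl⟩ := mem_zpowers_iff.1 hc
    rcases Int.even_or_odd' k with ⟨j, rfl | rfl⟩
    · left; exact mul_mem hb (by rw [zpow_mul, zpow_two]; exact zpow_mem ha j)
    · right
      rw [zpow_add_one, mul_assoc, mul_inv_cancel_right]
      exact mul_mem hb (by rw [zpow_mul, zpow_two]; exact zpow_mem ha j)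
  · rintro (h | h)
    · exact mem_sup_left h
    · simpa using mul_mem (mem_sup_left h) (mem_sup_right (mem_zpowers a))

theorem El.sup {B : Subgroup G} (h : El B) {a : G} (ha : a * a = 1) (hc : a ∈ C[B]) :
    El (B ⊔ zpowers a) := fun x hx => by
  rcases (mem_sup2 (ha ▸ one_mem B) (centralizer_le_normalizer _ hc)).1 hx with e | e
  · exact h x e
  · rw [inv2 ha] at e
    have h1 := h _ e
    have h2 := comm_c hc e
    calc x * x = x * a * (a * (x * a)) * a := by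
          rw [show x * a * (a * (x * a)) * a = x * (a * a) * x * (a * a) by group, ha]; group
      _ = x * a * (x * a) * (a * a) := by rw [← h2]; group
      _ = 1 := by rw [h1, ha, mul_one]

theorem card_sup2 [Finite G] {B : Subgroup G} {a : G} (ha : a * a ∈ B) (hn : a ∈ N[B]) (h : a ∉ B) :
    Nat.card ↥(B ⊔ zpowers a) = 2 * Nat.card B := by
  rw [sup_comm]; exact pg_card_zpowers_sup hn h (by rwa [pow_two])

theorem c_sup {B : Subgroup G} {a x : G} (h1 : x ∈ C[B]) (h2 : x ∈ C1[a]) : x ∈ C[B ⊔ zpowers a] := by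
  rw [centralizer_sup, C_zpowers]; exact ⟨h1, h2⟩

theorem n_sup [Finite G] {B : Subgroup G} {a x : G} (ha : a * a ∈ B) (hn : a ∈ N[B]) (h1 : x ∈ N[B])
    (h2 : x * a * x⁻¹ ∈ B ⊔ zpowers a) : x ∈ N[B ⊔ zpowers a] :=
  pg_mem_normalizer_of_conj_mem fun g hg => by
    rcases (mem_sup2 ha hn).1 hg with e | e
    · exact mem_sup_left (conj_mem_of_mem_normalizer h1 e)
    · have := mul_mem (mem_sup_left (conj_mem_of_mem_normalizer h1 e)) h2
      rwa [show x * (g * a⁻¹) * x⁻¹ * (x * a * x⁻¹) = x * g * x⁻¹ by group] at this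

theorem comm_symm {B : Subgroup G} {a b : G} (h : ⁅a, b⁆ ∈ B) : ⁅b, a⁆ ∈ B :=
  pg_commutatorElement_mem_symm h

theorem comm_conj {B R : Subgroup G} {a w : G} (hR : w ∈ N[R]) (hB : w ∈ N[B])
    (h : ∀ r ∈ R, ⁅a, r⁆ ∈ B) : ∀ r ∈ R, ⁅w * a * w⁻¹, r⁆ ∈ B := fun r hr => by
  have := conj_mem_of_mem_normalizer hB (h _ (conj_mem_of_mem_normalizer' hR hr))
  rwa [show w * ⁅a, w⁻¹ * r * w⁆ * w⁻¹ = ⁅w * a * w⁻¹, r⁆ by
    simp only [commutatorElement_def]; group] at this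

theorem comm_mul {B : Subgroup G} {a b r : G} (ha : a ∈ N[B]) (h1 : ⁅a, r⁆ ∈ B) (h2 : ⁅b, r⁆ ∈ B) :
    ⁅a * b, r⁆ ∈ B := by
  have := mul_mem (conj_mem_of_mem_normalizer ha h2) h1
  rwa [show a * ⁅b, r⁆ * a⁻¹ * ⁅a, r⁆ = ⁅a * b, r⁆ by simp only [commutatorElement_def]; group] at this

theorem comm_self {B : Subgroup G} {a r : G} (ha : a ∈ B) (hr : r ∈ N[B]) : ⁅a, r⁆ ∈ B := by
  have := mul_mem ha (conj_mem_of_mem_normalizer hr (inv_mem ha))
  rwa [show a * (r * a⁻¹ * r⁻¹) = ⁅a, r⁆ by simp only [commutatorElement_def]; group] at this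

theorem conj3 {w : G} (hw : orderOf w = 3) (a : G) : w * (w * (w * a * w⁻¹) * w⁻¹) * w⁻¹ = a := by
  have : w * w * w = 1 := by rw [← pow_three', cube3 hw]
  calc _ = w * w * w * a * (w * w * w)⁻¹ := by group
    _ = a := by rw [this]; group

variable [Finite G]

theorem trace {w a : G} {R B : Subgroup G} (hw : orderOf w = 3) (hR : ¬ 3 ∣ Nat.card R)
    (hn : w ∈ N[R]) (hB : w ∈ N[B]) (hRB : R ≤ N[B]) (ha : a ∈ R) (hc : ∀ r ∈ R, ⁅a, r⁆ ∈ B) :
    ∃ n ∈ B, ∃ c ∈ R ⊓ C1[w], n * c = a * (w * a * w⁻¹) * (w * (w * a * w⁻¹) * w⁻¹) := by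
  set τ := a * (w * a * w⁻¹) * (w * (w * a * w⁻¹) * w⁻¹) with hτ
  have h1 := conj_mem_of_mem_normalizer hn ha
  have h2 : τ ∈ R := mul_mem (mul_mem ha h1) (conj_mem_of_mem_normalizer hn h1)
  have h3 : ⁅τ, w⁆ ∈ B := by
    have e : w * τ * w⁻¹ = a⁻¹ * τ * a := by
      calc _ = w * a * w⁻¹ * (w * (w * a * w⁻¹) * w⁻¹) * (w * (w * (w * a * w⁻¹) * w⁻¹) * w⁻¹) := by
            rw [hτ]; group
        _ = _ := by rw [conj3 hw, hτ]; group
    have := conj_mem_of_mem_normalizer' (hRB ha) (hc τ h2)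
    rwa [show a⁻¹ * ⁅a, τ⁆ * a = τ * (a⁻¹ * τ * a)⁻¹ by simp only [commutatorElement_def]; group,
      ← e, show τ * (w * τ * w⁻¹)⁻¹ = ⁅τ, w⁆ by simp only [commutatorElement_def]; group] at this
  obtain ⟨n, h4, c, h5, e⟩ := (copAct3 hw hR hn).exists_mul_centralizer_of_commutator_mem
    (zpowers_le.2 hB) h2 fun x hx => by
      rcases (mem_zpowers3 (cube3 hw)).1 hx with rfl | rfl | rfl
      · simp
      · exact h3
      · have := conj_mem_of_mem_normalizer' hB (inv_mem h3)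
        rwa [show w⁻¹ * ⁅τ, w⁆⁻¹ * w = ⁅τ, w⁻¹⁆ by simp only [commutatorElement_def]; group] at this
  exact ⟨n, h4.2, c, C_zpowers w ▸ h5, e⟩

/-- the element `w` of order three acts on `R`, and `S` acts on `R⟨w⟩` -/
structure Tri (S R : Subgroup G) (w : G) : Prop where
  hw : orderOf w = 3
  two : IsPGroup 2 S
  le : R ≤ S
  nR : w ∈ N[R]
  tw : ∀ s ∈ S, s * w * s⁻¹ * w⁻¹ ∈ R ∨ s * w * s⁻¹ * w ∈ R

theorem Tri.conj {S R B : Subgroup G} {w a s : G} (h : Tri S R w) (hS : S ≤ N[B]) (hB : w ∈ N[B])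
    (hc : ∀ r ∈ S, ⁅a, r⁆ ∈ B) (hs : s ∈ S) :
    s * (w * a * w⁻¹) * s⁻¹ * (w * a * w⁻¹)⁻¹ ∈ B ∨
      s * (w * a * w⁻¹) * s⁻¹ * (w * (w * a * w⁻¹) * w⁻¹)⁻¹ ∈ B := by
  have h1 := comm_conj h.nR hB fun r hr => hc r (h.le hr)
  have h2 := comm_conj h.nR hB h1
  have h3 := comm_symm (hc s hs)
  rcases h.tw s hs with e | e
  · left
    have := mul_mem (conj_mem_of_mem_normalizer (hS (h.le e)) (conj_mem_of_mem_normalizer hB h3))
      (comm_symm (h1 _ e))
    convert this using 1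
    simp only [commutatorElement_def]; group
  · right
    have e1 : w * (w * a * w⁻¹) * w⁻¹ = w⁻¹ * a * w := by
      conv_rhs => rw [← conj3 h.hw a]
      group
    have := mul_mem (conj_mem_of_mem_normalizer (hS (h.le e)) (conj_mem_of_mem_normalizer' hB h3))
      (comm_symm (h2 _ e))
    rw [e1] at this ⊢
    convert this using 1
    simp only [commutatorElement_def]; group

/-- `B⟨a⟩` is elementary abelian, and `a` is central in `S` modulo `B` -/
structure St (S B : Subgroup G) (a : G) : Prop where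
  el : El B
  nS : S ≤ N[B]
  aS : a ∈ S
  nm : a ∉ B
  sq : a * a = 1
  ce : a ∈ C[B]
  co : ∀ s ∈ S, ⁅a, s⁆ ∈ B

theorem St.el' {S B : Subgroup G} {a : G} (h : St S B a) : El (B ⊔ zpowers a) := h.el.sup h.sq h.ce

theorem St.nS' {S B : Subgroup G} {a : G} (h : St S B a) : S ≤ N[B ⊔ zpowers a] := fun s hs =>
  n_sup (h.sq ▸ one_mem B) (h.nS h.aS) (h.nS hs) ((mem_sup2 (h.sq ▸ one_mem B) (h.nS h.aS)).2
    (Or.inr (comm_symm (h.co s hs))))

theorem St.card {S B : Subgroup G} {a : G} (h : St S B a) :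
    Nat.card ↥(B ⊔ zpowers a) = 2 * Nat.card B := card_sup2 (h.sq ▸ one_mem B) (h.nS h.aS) h.nm

theorem St.mem {S B : Subgroup G} {a x : G} (h : St S B a) :
    x ∈ B ⊔ zpowers a ↔ x ∈ B ∨ x * a ∈ B := by
  rw [mem_sup2 (h.sq ▸ one_mem B) (h.nS h.aS), inv2 h.sq]

theorem step {S R B : Subgroup G} {w a : G} (h : Tri S R w) (s : St S B a) (hB : w ∈ N[B])
    (ha : a ∈ R) (hf : ∀ c ∈ R, c ∈ C1[w] → c ∈ C[B] → (∀ r ∈ R, ⁅c, r⁆ ∈ B) → c ∈ B) :
    St S (B ⊔ zpowers a) (w * a * w⁻¹) ∧ w ∈ N[B ⊔ zpowers a ⊔ zpowers (w * a * w⁻¹)] ∧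
      a * (w * a * w⁻¹) * (w * (w * a * w⁻¹) * w⁻¹) ∈ B := by
  have hRB := h.le.trans s.nS
  have m1 := conj_mem_of_mem_normalizer h.nR ha
  have m2 := conj_mem_of_mem_normalizer h.nR m1
  have k0 : ∀ r ∈ R, ⁅a, r⁆ ∈ B := fun r hr => s.co r (h.le hr)
  have k1 := comm_conj h.nR hB k0
  have k2 := comm_conj h.nR hB k1
  have hBc := normalizer_le_normalizer_centralizer B hB
  have c1 := conj_mem_of_mem_normalizer hBc s.ce
  have c2 := conj_mem_of_mem_normalizer hBc c1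
  have q1 : _ = _ := conj_sq (g := w) s.sq
  have q2 : _ = _ := conj_sq (g := w) q1
  obtain ⟨n, hn, c, hc, e⟩ := trace h.hw (not3_of_two (h.two.to_le h.le)) h.nR hB hRB ha k0
  have e' := eq_inv_mul_of_mul_eq e
  have ht : a * (w * a * w⁻¹) * (w * (w * a * w⁻¹) * w⁻¹) ∈ B := by
    rw [← e]
    refine mul_mem hn (hf c hc.1 hc.2 (e' ▸ mul_mem (inv_mem (s.el.le_c hn))
      (mul_mem (mul_mem s.ce c1) c2)) fun r hr => ?_)
    rw [e']
    exact comm_mul (le_normalizer (inv_mem hn)) (comm_self (inv_mem hn) (hRB hr))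
      (comm_mul (hRB (mul_mem ha m1)) (comm_mul (hRB ha) (k0 r hr) (k1 r hr)) (k2 r hr))
  set a1 := w * a * w⁻¹ with ha1
  set a2 := w * a1 * w⁻¹ with ha2
  have hcm : a * a1 = a1 * a := comm_of_sq s.sq q1 (by
    have h1 := s.el _ ht
    have h2 := comm_c c2 ht
    calc _ = a * a1 * a2 * (a2 * (a * a1 * a2)) * a2 := by
          rw [show a * a1 * a2 * (a2 * (a * a1 * a2)) * a2 = a * a1 * (a2 * a2) * (a * a1) * (a2 * a2)
            by group, q2]; group
      _ = a * a1 * a2 * (a * a1 * a2) * (a2 * a2) := by rw [← h2]; group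
      _ = 1 := by rw [h1, q2, mul_one])
  have ha2' : a2 * a1⁻¹ ∈ B ⊔ zpowers a := by
    rw [s.mem]; right
    have := inv_mem ht
    rwa [mul_inv_rev, inv2 q2, mul_inv_rev, inv2 s.sq, ← mul_assoc] at this
  have s' : St S (B ⊔ zpowers a) a1 := ⟨s.el', s.nS', h.le m1, fun e => ?_, q1,
    c_sup c1 (mem_c1.2 hcm.symm), fun t ht' => comm_symm ?_⟩
  · refine ⟨s', ?_, ht⟩
    have hn1 : a1 ∈ N[B ⊔ zpowers a] := s'.nS s'.aS
    refine pg_mem_normalizer_of_conj_mem fun g hg => ?_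
    have key : ∀ g ∈ B ⊔ zpowers a, w * g * w⁻¹ ∈ B ⊔ zpowers a ⊔ zpowers a1 := fun g hg => by
      rcases s.mem.1 hg with e | e
      · exact mem_sup_left (mem_sup_left (conj_mem_of_mem_normalizer hB e))
      · refine s'.mem.2 (Or.inr (mem_sup_left ?_))
        have := conj_mem_of_mem_normalizer hB e
        rwa [show w * (g * a) * w⁻¹ = w * g * w⁻¹ * a1 by rw [ha1]; group] at this
    rcases s'.mem.1 hg with e | e
    · exact key g e
    · have := mul_mem (key _ e) (inv_mem (s'.mem.2 (Or.inr (inv2 q1 ▸ ha2'))))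
      rwa [show w * (g * a1) * w⁻¹ * a2⁻¹ = w * g * w⁻¹ by rw [ha2]; group] at this
  · rcases s.mem.1 e with e | e
    · exact s.nm (by simpa [ha1, mul_assoc] using conj_mem_of_mem_normalizer' hB e)
    · have e2 := conj_mem_of_mem_normalizer hB e
      rw [show w * (a1 * a) * w⁻¹ = a2 * a1 by rw [ha2, ha1]; group] at e2
      refine s.nm ?_
      have h3 := mul_mem (inv_mem e2) (mul_mem (inv_mem (hcm ▸ e)) ht)
      rw [inv_mul_cancel_left, mul_inv_rev, inv_mul_cancel_right] at h3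
      simpa [ha1, mul_assoc] using conj_mem_of_mem_normalizer' hB (inv_mem h3)
  · rcases h.conj s.nS hB s.co ht' with e | e
    · exact mem_sup_left e
    · have := mul_mem (mem_sup_left e) ha2'
      rwa [show t * a1 * t⁻¹ * a2⁻¹ * (a2 * a1⁻¹) = ⁅t, a1⁆ by
        simp only [commutatorElement_def]; group] at this

theorem chain {S B0 : Subgroup G} (B : Subgroup G) : ∀ {R1 R2 : Subgroup G} {w1 w2 a : G},
    Tri S R1 w1 → Tri S R2 w2 → S ⊓ C[B0] ≤ R1 ⊓ R2 →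
    (∀ c ∈ R1, c ∈ C1[w1] → c ∈ C[B0] → c ∈ B0) → (∀ c ∈ R2, c ∈ C1[w2] → c ∈ C[B0] → c ∈ B0) →
    B0 ≤ B → St S B a → w1 ∈ N[B] → w2 ∈ N[B ⊔ zpowers a] → False := by
  induction B using WellFoundedGT.induction with
  | ind B ih =>
  intro R1 R2 w1 w2 a t1 t2 hC f1 f2 h0 s n1 n2
  obtain ⟨s', n3, -⟩ := step t1 s n1 (hC ⟨s.aS, centralizer_mono h0 s.ce⟩).1
    fun c h1 h2 h3 _ => h0 (f1 c h1 h2 (centralizer_mono h0 h3))
  exact ih (B ⊔ zpowers a) (left_lt_sup.2 fun e => s.nm (e (mem_zpowers a))) t2 t1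
    (inf_comm R1 R2 ▸ hC) f2 f1 (h0.trans le_sup_left) s' n2 n3

end Cfsg.Lib.Six
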