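import Cfsg.Agent.Lib.Six.IB
import Cfsg.Agent.Lib.Six.Order
import Cfsg.Agent.Lib.FT.PF2.Basic
import Cfsg.Agent.S3304

/-!
# Semidihedral Sylow 2-subgroups: the core is trivial and the order is 7920 or 5616
-/

set_option autoImplicit false

namespace Cfsg.Lib.Six
open Subgroup Cfsg Cfsg.Lib Cfsg.Lib.FT Cfsg.Lib.GW Cfsg.Lib.BSW
open scoped commutatorElement

variable {G : Type*} [Group G]

theorem avg_dvd [Fintype G] {T : genChars G} (hT : ip T T = 1) {K O : Subgroup G} [Fintype O]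
    (hn : K ≤ N[O]) (hd : K ⊓ O = ⊥)
    (h : ∀ k ∈ K, k ≠ 1 → ∀ o ∈ O, (T : G → ℂ) (k * o) = (T : G → ℂ) k) {n : ℤ}
    (h0 : ∑ o : O, (T : G → ℂ) o = Nat.card O * n) : (Nat.card K : ℤ) ∣ gcDeg T - n := by
  classical
  have := Fintype.ofFinite K
  have := Fintype.ofFinite ↥(K ⊔ O)
  let e : K × O ≃ ↥(K ⊔ O) := Equiv.ofBijective (fun x => ⟨x.1 * x.2, mul_mem (mem_sup_left x.1.2)
    (mem_sup_right x.2.2)⟩) ⟨fun x y e => by
      have e1 : (x.1 : G) * x.2 = y.1 * y.2 := congrArg Subtype.val e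
      have e2 : (y.1 : G)⁻¹ * x.1 ∈ K ⊓ O := mem_inf.2 ⟨mul_mem (inv_mem y.1.2) x.1.2, by
        rw [show (y.1 : G)⁻¹ * x.1 = y.2 * (x.2 : G)⁻¹ by
          rw [inv_mul_eq_iff_eq_mul, ← mul_assoc, ← e1, mul_inv_cancel_right]]
        exact mul_mem y.2.2 (inv_mem x.2.2)⟩
      rw [hd, mem_bot, inv_mul_eq_one] at e2
      exact Prod.ext (Subtype.ext e2.symm) (Subtype.ext (mul_left_cancel (e2 ▸ e1))), fun x => by
      obtain ⟨k, hk, o, ho, e⟩ := (mem_sup_of_le_normalizer' hn).1 x.2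
      exact ⟨(⟨k, hk⟩, ⟨o, ho⟩), Subtype.ext e⟩⟩
  obtain ⟨n1, h1, -⟩ := exists_avg_of_ip_one hT (K ⊔ O)
  obtain ⟨n2, h2, -⟩ := exists_avg_of_ip_one hT K
  rw [← e.sum_comp, Fintype.sum_prod_type, ← Nat.card_congr e, Nat.card_prod, Finset.sum_congr rfl
    (g := fun k : K => Nat.card O * (T : G → ℂ) k + if k = 1 then Nat.card O * (n - gcDeg T : ℂ) else 0)
    fun k _ => ?_, Finset.sum_add_distrib, ← Finset.mul_sum, h2] at h1
  · refine ⟨n2 - n1, Int.cast_injective (α := ℂ) (mul_left_cancel₀ (natCard_complex_ne_zero O) ?_)⟩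
    simp only [Finset.sum_ite_eq', Finset.mem_univ, if_true] at h1
    push_cast at h1 ⊢
    linear_combination -h1
  · change ∑ o : O, (T : G → ℂ) (k * o) = _
    split_ifs with e
    · simp only [e, coe_one, one_mul, h0, gcDeg_spec]; ring
    · rw [Finset.sum_congr rfl fun (o : O) _ => h k k.2 (fun e' => e (Subtype.ext e')) o o.2]
      simp

theorem avg_lt [Fintype G] [IsSimpleGroup G] (hG : commutator G = ⊤) {T : genChars G}
    (hT : ip T T = 1) (h1 : ip T (gcOne G) = 0) {O : Subgroup G} [Fintype O] (hO : O ≠ ⊥) {n : ℤ}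
    (h0 : ∑ o : O, (T : G → ℂ) o = Nat.card O * n) : |n| < |gcDeg T| := by
  obtain ⟨χ, hχ, h⟩ := exists_irr_of_ip_eq_one hT
  have hne : χ ≠ 1 := by
    rintro rfl
    have := ip_spec T (gcOne G)
    rw [h1] at this
    rcases h with h | h <;> rw [h] at this
    · exact absurd (this.trans classInner_one_one) (by simp)
    · rw [classInner_neg_left] at this
      exact absurd (this.trans (congrArg Neg.neg classInner_one_one)) (by simp)
  have h2 : ∀ g, ‖(T : G → ℂ) g‖ = ‖χ g‖ := fun g => by rcases h with h | h <;> simp [h]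
  obtain ⟨o, ho⟩ := ne_bot_iff_exists_ne_one.1 hO
  have h3 := (norm_sum_le _ _).trans_lt (Finset.sum_lt_sum (s := Finset.univ)
    (f := fun o : O => ‖(T : G → ℂ) o‖) (g := fun _ => ‖(T : G → ℂ) 1‖)
    (fun o _ => by rw [h2, h2]; exact hχ.isCharacter.norm_le _) ⟨o, Finset.mem_univ _, by
      rw [h2, h2]; exact OC.norm_lt_of_simple hG hχ hne fun e => ho (Subtype.ext e)⟩)
  rw [h0, gcDeg_spec, Finset.sum_const, Finset.card_univ, ← Nat.card_eq_fintype_card, norm_mul,
    Complex.norm_natCast, Complex.norm_intCast, Complex.norm_intCast, nsmul_eq_mul] at h3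
  exact_mod_cast lt_of_mul_lt_mul_left h3 (Nat.cast_nonneg _)

variable [Finite G]

namespace CB
variable {z y b : G} {Q O : Subgroup G} (c : CB z y b Q O)
include c

theorem comm_odd {N : Subgroup C1[z]} [hN : N.Normal] (h : Odd (Nat.card N)) {q : G} (hq : q ∈ Q)
    {o : C1[z]} (ho : o ∈ N) : q * o = o * q :=
  congrArg Subtype.val (commute_of_normal_of_disjoint (Q.subgroupOf C1[z]) N
    ((normal_subgroupOf_iff_le_normalizer c.Qle).2 c.nQ) hN (by
      obtain ⟨k, hk⟩ := (c.Q2.comap_subtype (K := C1[z])).exists_card_eq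
      exact disjoint_of_coprime_natCard (hk ▸ (Nat.coprime_two_left.2 h).pow_left k))
    ⟨q, c.Qle hq⟩ o hq ho).eq

theorem gc [IsSimpleGroup G] (hG : ¬ IsMulCommutative G) (h : Hyp G)
    (hu : ∀ u ∈ Q, orderOf u = 2 → u = z) :
    IsMulCommutative ↥(Q ⊔ zpowers b) ∨ ∃ π, GC z π ∧ Nat.card Q = 8 := by
  have hk : ∀ x : C1[z], (x : G) ∈ Q ⊔ zpowers b → x ∈ oddCore C1[z] → x = 1 := fun x h1 h2 =>
    eq_one_of_mem_of_coprime c.syl0.isPGroup.comap_subtype h1 (Nat.coprime_two_right.mpr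
      (odd_card_oddCore.of_dvd_nat (Subgroup.orderOf_dvd_natCard _ h2)))
  have hI : ∀ S T : Sylow 2 C1[z], S ≠ T → PRankLE 2 1 ↥((S : Subgroup C1[z]) ⊓ T) := fun S T ne => by
    have k : ∀ S : Sylow 2 C1[z], Q.subgroupOf C1[z] ≤ S := fun S =>
      have := (normal_subgroupOf_iff_le_normalizer c.Qle).2 c.nQ
      IsPGroup.le_sylow_of_normal (N := Q.subgroupOf C1[z]) c.Q2.comap_subtype S
    have h1 := pg_mul_card_le_of_lt S.isPGroup' (lt_of_le_not_ge (inf_le_left (b := (T : Subgroup C1[z]))) fun e =>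
      ne (Sylow.ext (S.is_maximal' T.isPGroup' (e.trans inf_le_right)).symm))
    have h2 := (IsSylowIn.of_sylow S).card_eq_card c.syl0
    rw [card_subtype, c.cardS, ← Nat.card_congr (subgroupOfEquivOfLe c.Qle).toEquiv] at h2
    rw [← eq_of_le_of_card_ge (le_inf (k S) (k T)) (by omega)]
    refine pRankLE_subgroup_iff.2 fun E h3 h4 => (card_le_of_le (K := zpowers (selfC z)) fun x hx => ?_).trans
      (card2 (by rw [← orderOf_coe]; exact c.hz)).le
    rcases eq_or_ne x 1 with rfl | h5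
    · exact one_mem _
    · rw [show x = selfC z from Subtype.ext (hu x (h3 hx) ((orderOf_coe x).trans
        (orderOf_eq_prime (h4.2 x hx) h5)))]
      exact mem_zpowers _
  rcases Agent.S3304.result c.solv hI with ⟨P, hP⟩ | ⟨⟨e⟩⟩ | ⟨-, -, -, e⟩
  · refine Or.inl (c.comm_of_c1 h fun q hq => mem_c1.2 (c.comm_odd odd_card_oddCore hq
      (o := ⟨y, c.yz⟩) ?_))
    let ρ := QuotientGroup.mk' (oddCore C1[z])
    have h1 : ρ ⟨b, c.bz⟩ ∈ (P : Subgroup _) := zpowers_le.1 ((IsSylowIn.of_sylow_top P).le_of_le_normalizer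
      (MonoidHom.map_zpowers ρ _ ▸ (c.syl0.isPGroup.comap_subtype.to_le (zpowers_le.2
        (mem_sup_right (mem_zpowers b)))).map ρ) le_top le_normalizer_of_normal)
    have h2 := mul_mem h1 (hP.conj_mem _ (inv_mem h1) (ρ ⟨y, c.yz⟩))
    rw [← map_inv, ← map_inv, ← map_mul, ← map_mul, ← map_mul, show (⟨b, c.bz⟩ * (⟨y, c.yz⟩ *
      (⟨b, c.bz⟩ : C1[z])⁻¹ * (⟨y, c.yz⟩ : C1[z])⁻¹) : C1[z]) = ⟨y, c.yz⟩ from Subtype.ext (by
        simp only [coe_mul, coe_inv, ← mul_assoc, c.inv, inv_mul_inv3 c.hy])] at h2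
    exact (QuotientGroup.eq_one_iff _).1 (eq_one_of_mem_of_coprime P.isPGroup' h2
      (Nat.Coprime.coprime_dvd_left (orderOf_map_dvd ρ _) (by rw [← orderOf_coe, c.hy]; decide)))
  · obtain ⟨f⟩ := M48.equivGL
    let π := (e.trans f).toMonoidHom.comp (QuotientGroup.mk' (oddCore C1[z]))
    have h1 : π.ker = oddCore C1[z] := by ext; simp [π]
    have h2 : Function.Surjective π := (e.trans f).surjective.comp (QuotientGroup.mk'_surjective _)
    have h3 : Odd (Nat.card π.ker) := h1 ▸ odd_card_oddCore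
    refine Or.inr ⟨π, ⟨c.hz, h.oc, h2, h3⟩, ?_⟩
    have h4 := relIndex_mul_card c.leS
    rw [← π.ker.index_mul_card, index_ker, MonoidHom.range_eq_top.2 h2, card_top, M48.card] at h4
    obtain ⟨k, hk⟩ := c.syl0.isPGroup.exists_card_eq
    have h5 : Nat.card ↥(Q ⊔ zpowers b) ∣ 16 := Nat.Coprime.dvd_of_dvd_mul_right (n := 3 * Nat.card π.ker)
      (hk ▸ (Nat.coprime_two_left.2 (Odd.mul (by decide) h3)).pow_left k) ⟨_, by
        rw [← mul_assoc, mul_comm (Nat.card _)]; exact h4.symm⟩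
    have h6 : 2 ^ 4 ∣ Nat.card ↥(Q ⊔ zpowers b) := Nat.Coprime.dvd_of_dvd_mul_left
      ((Nat.prime_two.coprime_iff_not_dvd.2 c.syl0.not_dvd_relIndex).pow_left 4)
      ⟨3 * Nat.card π.ker, by rw [h4]; ring⟩
    have := Nat.dvd_antisymm h5 h6
    rw [c.cardS] at this
    omega
  · refine (not_uniq hG (c.syl h) (z := z) fun u hu ho => ?_).elim
    let ρ := QuotientGroup.mk' (oddCore C1[z])
    obtain ⟨S, hS⟩ := c.syl0.exists_sylow'
    obtain ⟨e⟩ := e (S.mapSurjective (QuotientGroup.mk'_surjective _))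
    have k : ∀ (v : G) (hv : v ∈ Q ⊔ zpowers b), orderOf v = 2 → e ⟨ρ ⟨v, c.leS hv⟩, ⟨_, hS.ge hv, rfl⟩⟩ =
        QuaternionGroup.a 4 := fun v hv h1 => by
      refine ((by decide : ∀ x : QuaternionGroup 4, x * x = 1 → x = 1 ∨ x = .a 4) _ ?_).resolve_left
        fun h2 => ne_one2 h1 (congrArg Subtype.val (hk _ hv ((QuotientGroup.eq_one_iff _).1
          (congrArg Subtype.val (e.map_eq_one_iff.1 h2)))))
      rw [← map_mul, e.map_eq_one_iff]
      exact Subtype.ext ((map_mul ρ _ _).symm.trans (by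
        rw [show (_ * _ : C1[z]) = 1 from Subtype.ext (mul_self2 h1), map_one]; rfl))
    have h1 := congrArg Subtype.val (e.injective ((k u hu ho).trans (k z (mem_sup_left c.zQ) c.hz).symm))
    exact inv_mul_eq_one.1 (congrArg Subtype.val (hk _ (mul_mem (inv_mem hu) (mem_sup_left c.zQ))
      (QuotientGroup.eq.1 h1)))

theorem core_bot [IsSimpleGroup G] (hG : commutator G = ⊤) (h : Hyp G)
    (hu : ∀ u ∈ Q, orderOf u = 2 → u = z) {π : C1[z] →* M48} (g : GC z π) (h8 : Nat.card Q = 8) :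
    Function.Injective π ∧ (Nat.card G = 7920 ∨ Nat.card G = 5616) := by
  classical
  have := Fintype.ofFinite G
  obtain ⟨T, o, h1, h2, h3, h4, h5⟩ := g.data hG (by
    have := (c.syl h).not_dvd_relIndex
    rw [relIndex_top_right] at this
    exact Nat.not_even_iff_odd.1 fun e => this (e.two_dvd.trans (index_dvd_of_le c.leS)))
  have hc : Nat.card C1[z] = 48 * Nat.card π.ker := by
    rw [← π.ker.index_mul_card, index_ker, MonoidHom.range_eq_top.2 g.surj, card_top, M48.card]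
  have hi : Function.Injective π := by
    set N := π.ker.map C1[z].subtype with hN
    have hN' : Nat.card N = Nat.card π.ker := card_subtype _ _
    have le : N ≤ C1[z] := map_subtype_le _
    have nN : C1[z] ≤ N[N] := le_normalizer_map_subtype _
    have n3 : ¬ 3 ∣ Nat.card N := fun e => h.not_nine c.hz le_rfl (by omega)
    obtain ⟨n, k1, k2⟩ := exists_avg_of_ip_one h1 N
    have k3 := avg_dvd h1 (c.Qle.trans nN) (by
      obtain ⟨k, hk⟩ := c.Q2.exists_card_eq
      exact inf_eq_bot_of_coprime (hk ▸ (Nat.coprime_two_left.2 (hN' ▸ g.odd)).pow_left k))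
      (fun q hq q1 w hw => by
        obtain ⟨k, hk⟩ := c.Q2 ⟨q, hq⟩
        obtain ⟨t, t1, t2⟩ := sm_exists_mem_orderOf_eq Nat.prime_two _ (dvd_card_of_isPGroup_of_ne_bot
          (c.Q2.to_le (zpowers_le.2 hq)) (by rwa [Ne, zpowers_eq_bot]))
        have : (N.subgroupOf C1[q]).Normal := normal_subgroupOf_of_le_normalizer
          fun x hx => nN (mem_c1_symm (zpowers_le.2 (mem_c1_symm hx) (hu t (zpowers_le.2 hq t1) t2 ▸ t1)))
        obtain ⟨w, hw', rfl⟩ := id hw
        rw [← h3]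
        exact pb0_mul_eq_of_mem_normal (gc_class T) (congrArg Subtype.val hk) (N.subgroupOf C1[q])
          (fun e => g.odd.not_two_dvd_nat (e.trans (hN' ▸ card_comap_dvd_of_injective _ _ (subtype_injective _))))
          ⟨⟨w, mem_c1.2 (c.comm_odd g.odd hq hw').symm⟩, hw, rfl⟩) k1
    have k4 := avg_dvd h1 (zpowers_le.2 (nN c.yz)) (inf_eq_bot_of_coprime (by
      rw [card3 c.hy]; exact Nat.prime_three.coprime_iff_not_dvd.2 n3)) (fun w hw w1 u hu => by
        have e1 := orderOf_of_mem3 c.hy hw w1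
        have e2 := zpowers_le.2 c.yz hw
        obtain ⟨x, -, d, d1, d2, e⟩ := (sum_coset_eq (M := ℕ) N (fun x hx =>
          conj_mem_of_mem_normalizer' (nN e2) hx) (by
            rw [e1]; exact Nat.prime_three.coprime_iff_not_dvd.2 n3)).1 u hu
        rcases (mem_zpowers_two c.zz).1 (h.fix_c1 c.hz e1 e2 n3 le ⟨d1, mem_c1.2 d2⟩) with rfl | rfl
        · rw [e, mul_one, gc_class T]
        · exact absurd (c.hz ▸ Subgroup.orderOf_dvd_natCard _ d1) (hN' ▸ g.odd.not_two_dvd_nat)) k1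
    rw [h8] at k3
    rw [card3 c.hy] at k4
    rw [← MonoidHom.ker_eq_bot_iff, ← map_subtype_eq_bot_iff]
    by_contra e
    have k5 := avg_lt hG h1 h2 e k1
    rcases h5 with ⟨e, -⟩ | ⟨e, -⟩ <;> rw [e] at k2 k3 k4 k5 <;> rw [abs_lt] at k5 <;> simp at k5 <;> omega
  have := C1[z].index_mul_card
  rw [(MonoidHom.ker_eq_bot_iff π).2 hi, card_bot] at hc
  rw [h4 hi] at h5
  rw [hc] at this
  exact ⟨hi, by omega⟩

end CB

end Cfsg.Lib.Six
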