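import Cfsg.Agent.Lib.Six.Sixty4

/-!
# Case B with noncyclic centre
-/

set_option autoImplicit false

namespace Cfsg.Lib.Six
open Subgroup Cfsg Cfsg.Lib Cfsg.Lib.FT Cfsg.Lib.GW
open scoped commutatorElement

variable {G : Type*} [Group G] [Finite G]

theorem CB.comm_of_c1 {z y b : G} {Q O : Subgroup G} (c : CB z y b Q O) (h : Hyp G) (hy : Q ≤ C1[y]) :
    IsMulCommutative ↥(Q ⊔ zpowers b) :=
  have h5 : Q ≤ zpowers z := fun _ hx => (c.fix h).le ⟨hx, hy hx⟩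
  isMulCommutative_iff_le_centralizer.2 (sup_le (h5.trans (zpowers_le.2 (le_c1_iff.1 c.leS)))
    (zpowers_le.2 (c_sup (centralizer_mono h5 (C_zpowers z ▸ c.bz)) (self_mem_c1 b))))

theorem CB.small {z y b u : G} {Q O : Subgroup G} (c : CB z y b Q O) (h : Hyp G)
    (hu : u ∈ oz (Q ⊔ zpowers b)) (hQ : u ∉ Q) : IsMulCommutative ↥(Q ⊔ zpowers b) := by
  have h1 := c.tw ((c.memS.1 hu.1).resolve_left hQ)
  have h2 : u ∈ C[Q] := centralizer_mono le_sup_left hu.2.1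
  have h3 := mul_mem h2 (conj_mem_of_mem_normalizer
    (normalizer_le_normalizer_centralizer Q (c.nQ c.yz)) (inv_mem h2))
  rw [show u * (y * u⁻¹ * y⁻¹) = u * y * u⁻¹ * y * (y⁻¹ * y⁻¹) by group, inv_mul_inv3 c.hy] at h3
  generalize u * y * u⁻¹ * y = q at *
  have h4 : q ∈ zpowers z := (c.fix h).le ⟨h1, mem_c1.2 (mul_left_cancel (a := q) (by
    rw [comm_c h3 h1, mul_assoc]))⟩
  exact c.comm_of_c1 h (le_c1_iff.2 (by
    simpa using mul_mem (inv_mem (zpowers_le.2 (le_c1_iff.1 c.Qle) h4)) h3))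

namespace CB
variable {z y b : G} {Q : Subgroup G} (c : CB z y b Q ⊥) (h : Hyp G)
include c h

theorem nn : N[Q ⊔ zpowers b] ⊓ N[Q] ≤ Q ⊔ zpowers b := by
  refine ((c.syl h).maximal _ (pg_isPGroup_of_forall_prime_order fun w hw hp => by_contra fun h2 => ?_)
    le_top (le_inf le_normalizer (c.leS.trans c.nQ))).le
  generalize ho : orderOf w = p at *
  haveI := Fact.mk hp
  have hS := c.cardS
  have hQ := c.modQ h
  rcases eq_or_ne p 3 with rfl | h3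
  · rcases h.mod_cases ho c.syl0.isPGroup hw.1 with ⟨-, e1⟩ | ⟨e1, -⟩
    · have := card_mod3 ho hw.2
      rw [eq_bot_iff.2 ((inf_le_inf_right _ le_sup_left).trans e1.le), card_bot] at this
      omega
    · omega
  have hc : Nat.card (zpowers w) = p := by rw [Nat.card_zpowers, ho]
  have k : ∀ {X : Subgroup G}, IsPGroup 2 X → w ∈ N[X] → Nat.card X ≡ 1 [MOD p] := fun hX hn => by
    have := sm_card_modEq_card_inf_centralizer (isPGroup_of_card_eq_prime hc) (zpowers_le.2 hn)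
    rwa [C_zpowers, c.fpf h (K := zpowers w) (by
      rw [hc, show 6 = 2 * 3 from rfl]
      exact ((Nat.coprime_primes hp Nat.prime_two).2 h2).mul_right
        ((Nat.coprime_primes hp Nat.prime_three).2 h3)) hX w (mem_zpowers w)
        (fun e => hp.one_lt.ne (by rw [← ho, e, orderOf_one])), card_bot] at this
  have h4 := (k c.syl0.isPGroup hw.1).symm.trans (hS ▸ (k c.Q2 hw.2).mul_left 2)
  exact hp.one_lt.ne' (Nat.dvd_one.1 ((Nat.modEq_iff_dvd' (by norm_num)).1 h4))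

theorem move {v : G} (hv : v ∈ oz (Q ⊔ zpowers b)) (h1 : v ≠ 1) (h2 : v ≠ z) :
    ∃ n, CB v (n * y * n⁻¹) (n * b * n⁻¹) (n •ᶜ Q) ⊥ ∧ n ∈ N[Q ⊔ zpowers b] ∧
      n •ᶜ Q ⊔ zpowers (n * b * n⁻¹) = Q ⊔ zpowers b ∧ n •ᶜ Q ≠ Q := by
  obtain ⟨n, hn, rfl⟩ := fuse_oz h.oc (c.syl h) c.hz (ord2 h1 hv.2.2) (le_c1_iff.1 c.leS) hv.2.1
  refine ⟨n, map_bot (MulAut.conj n).toMonoidHom ▸ c.conj n, hn, ?_, fun e => h2 (conj_eq_of_c1
    (c.leS (c.nn h ⟨hn, conj_eq_iff_mem_normalizer.1 e⟩)))⟩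
  rw [← conj_zpowers, ← conj_sup, conj_eq_iff_mem_normalizer.2 hn]

theorem ib (hΩ : oz (Q ⊔ zpowers b) ≤ Q) {x : G} (hx : x ∈ oz (Q ⊔ zpowers b))
    (hxz : x ∉ zpowers z) : False := by
  have st : St (Q ⊔ zpowers b) (zpowers z) x := ⟨el_zpowers c.zz, c.leS.trans (c1_le_nz z), hx.1, hxz,
    hx.2.2, C_zpowers z ▸ c.leS hx.1, fun s hs => by
      rw [commutatorElement_eq_one_iff_mul_comm.2 (comm_c hx.2.1 hs).symm]; exact one_mem _⟩
  have s1 := (c.st1 h (hΩ hx) st).1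
  have cU := fun s => c.cU h (hΩ hx) st (s := s)
  have aZ : y * x * y⁻¹ ∈ oz Q := conj_mem_of_mem_normalizer (n_le_oz Q (c.nQ c.yz))
    ⟨hΩ hx, centralizer_mono le_sup_left hx.2.1, hx.2.2⟩
  have h8 := s1.card
  rw [show Nat.card (four z x) = 2 * Nat.card (zpowers z) from st.card, card2 c.hz] at h8
  generalize y * x * y⁻¹ = a at *
  have hz : z ∈ oz (Q ⊔ zpowers b) := ⟨mem_sup_left c.zQ, le_c1_iff.1 c.leS, c.zz⟩
  have hV : four z x ≤ oz (Q ⊔ zpowers b) := four_le_iff.2 ⟨hz, hx⟩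
  have hc := hV (s1.co b (mem_sup_right (mem_zpowers b)))
  have c1 : ⁅a, b⁆ ≠ 1 := fun e => c.bQ (cU b (mem_sup_right (mem_zpowers b))
    (mem_c1.2 (commutatorElement_eq_one_iff_mul_comm.1 e).symm))
  have co : ∀ s ∈ Q ⊔ zpowers b, ⁅a, s⁆ ∈ zpowers ⁅a, b⁆ := fun s hs => by
    rcases c.memS.1 hs with e | e
    · rw [commutatorElement_eq_one_iff_mul_comm.2 (comm_c aZ.2.1 e).symm]; exact one_mem _
    · convert mem_zpowers ⁅a, b⁆ using 1
      calc _ = a * (s * b⁻¹) * a⁻¹ * ⁅a, b⁆ * (s * b⁻¹)⁻¹ := by simp only [commutatorElement_def]; group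
        _ = _ := by rw [← comm_c aZ.2.1 e, mul_inv_cancel_right, comm_c hc.2.1 (mem_sup_left e),
          mul_inv_cancel_right]
  generalize ⁅a, b⁆ = d at *
  obtain ⟨v, hv, v1, vz, vd⟩ : ∃ v ∈ oz (Q ⊔ zpowers b), v ≠ 1 ∧ v ≠ z ∧ v ≠ d := by
    have h1 : x ≠ 1 := fun e => hxz (e ▸ one_mem _)
    have h2 : x ≠ z := fun e => hxz (e ▸ mem_zpowers _)
    rcases eq_or_ne x d with rfl | e
    · refine ⟨z * x, mul_mem hz hx, fun e => h2 ?_, fun e => h1 (by simpa using e),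
        fun e => ne_one2 c.hz (by simpa using e)⟩
      rw [← inv2 c.zz, eq_inv_of_mul_eq_one_right e]
    · exact ⟨x, hx, h1, h2, e⟩
  obtain ⟨n, c', hn, e, ne⟩ := c.move h hv v1 vz
  have hΩ' := (conj_eq_iff_mem_normalizer.2 (n_le_oz _ hn)).ge.trans (conj_le_conj_iff.2 hΩ)
  have el' : El Q → El (n •ᶜ Q) := fun hQ => by
    rintro _ ⟨t, ht, rfl⟩; exact conj_sq (hQ t ht)
  have hcd := card_map_conj Q n
  generalize n * y * n⁻¹ = y' at *
  generalize n * b * n⁻¹ = b' at *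
  generalize n •ᶜ Q = Q' at *
  have hle : Q' ≤ Q ⊔ zpowers b := e ▸ le_sup_left
  have va : v ∈ C1[a] := mem_c1.2 (comm_c hv.2.1 s1.aS).symm
  have hQ' := c'.modQ h
  have i1 := GW.relIndex_mul_card_inf C1[a] Q'
  have j1 := relIndex_c1_dvd (X := Q') hc.2.2 fun r hr => co r (hle hr)
  by_cases ha : a ∈ Q'
  · have h1 := lam (c'.nQ c'.yz) ha (centralizer_mono hle hc.2.1) c1 hc.2.2 (fun e => vd (((mem_zpowers_two
      c'.zz).1 ((c'.fix h).le ⟨hΩ' hc, mem_c1_symm e⟩)).resolve_left c1).symm) (fun r hr => co r (hle hr))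
      (zpowers_le.2 (le_c1_iff.1 c'.Qle) (h.norm3 c'.hz c'.hy c'.yz (not3_of_two c'.Q2) c'.Qle
        (c'.nQ c'.yz) ha))
    have h2 := c'.mod h (D := Q' ⊓ C1[a]) c'.Q2.to_inf_left ⟨c'.zQ, va⟩ (inv_mem_iff.1
      (pg_mem_normalizer_of_conj_mem fun t ht => ⟨conj_mem_of_mem_normalizer (inv_mem (c'.nQ c'.yz)) ht.1,
        by rw [inv_inv]; exact mem_map_conj.1 (c1_conj y' a ▸ h1 ht)⟩))
    rcases j1 with e1 | e1
    · exact ne (eq_of_le_of_card_ge (fun t ht => cU t (hle ht) (relIndex_eq_one.1 e1 ht)) hcd.ge)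
    · rw [e1] at i1; omega
  have h1 := c'.tw ((c'.memS.1 (e ▸ s1.aS)).resolve_left ha)
  obtain ⟨w, h2, hw⟩ := sm_exists_mem_orderOf_eq Nat.prime_three (zpowers (a * y' * a⁻¹ * y' * y')) (by
    rw [Nat.card_zpowers]; exact three_dvd_mul c'.hy (not3_of_two c'.Q2) (c'.nQ c'.yz) h1)
  have h3 : Q' ⊓ C1[a] ⊓ C1[y' * a⁻¹ * y'⁻¹] ≤ zpowers v := fun t ht =>
    (h.fix2' c'.hz hw (zpowers_le.2 (mul_mem (c'.Qle h1) c'.yz) h2) c'.Q2 c'.zQ).le ⟨ht.1.1,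
      mem_c1_symm (zpowers_le.2 (by
        have := mul_mem (mem_c1_symm ht.1.2) (mem_c1_symm ht.2)
        rwa [show a * (y' * a⁻¹ * y'⁻¹) = a * y' * a⁻¹ * y' * (y'⁻¹ * y'⁻¹) by group,
          inv_mul_inv3 c'.hy] at this) h2)⟩
  have h4 := card2 c'.hz ▸ card_le_of_le h3
  have i2 := GW.relIndex_mul_card_inf C1[y' * a⁻¹ * y'⁻¹] (Q' ⊓ C1[a])
  have j2 := relIndex_c1_dvd (X := Q' ⊓ C1[a]) (a := y' * a⁻¹ * y'⁻¹) (conj_sq (g := y') hc.2.2)
    fun r hr => by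
      have := conj_mem_conj (co _ (hle (conj_mem_of_mem_normalizer' (c'.nQ c'.yz) hr.1))) y'
      rwa [conj_zpowers, conjugate_commutatorElement, show y' * (y'⁻¹ * r * y') * y'⁻¹ = r by group,
        ← inv2 s1.sq] at this
  have hel : El Q := by
    rw [← eq_of_le_of_card_ge (sup_le (hV.trans hΩ) (zpowers_le.2 aZ.1)) (by
      rcases j1 with e1 | e1 <;> rcases j2 with e2 | e2 <;> rw [e1] at i1 <;> rw [e2] at i2 <;> omega)]
    exact s1.el'
  obtain ⟨m, c2, -, e2, ne2⟩ := c.move h (mul_mem hz hv) (fun e => vz (by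
    rw [← inv2 c.zz, eq_inv_of_mul_eq_one_right e])) fun e => v1 (by simpa using e)
  obtain ⟨m', c3, -, -, ne3⟩ := c'.move h (e ▸ mul_mem hz hv) (ne_one2 c2.hz)
    fun e => ne_one2 c.hz (by simpa using e)
  rw [c3.eQ, ← c2.eQ] at ne3
  have el2 : El (m •ᶜ Q) := by rintro _ ⟨t, ht, rfl⟩; exact conj_sq (hel t ht)
  have hcd2 := card_map_conj Q m
  have hle2 : m •ᶜ Q ≤ Q ⊔ zpowers b := e2 ▸ le_sup_left
  generalize m •ᶜ Q = Q2 at *
  obtain ⟨r, hr, r1, r2⟩ : ∃ r ∈ Q2, r ∉ Q ∧ r ∉ Q' := by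
    obtain ⟨r, hr, r1⟩ := SetLike.not_le_iff_exists.1 fun e => ne2 (eq_of_le_of_card_ge e hcd2.ge)
    obtain ⟨s, hs, s2⟩ := SetLike.not_le_iff_exists.1 fun e => ne3 (eq_of_le_of_card_ge e (by omega))
    by_cases r2 : r ∈ Q'
    · by_cases s1 : s ∈ Q
      · exact ⟨r * s, mul_mem hr hs, fun e => r1 ((mul_mem_cancel_right s1).1 e),
          fun e => s2 ((mul_mem_cancel_left r2).1 e)⟩
      · exact ⟨s, hs, s1, s2⟩
    · exact ⟨r, hr, r1, r2⟩
  exact r1 (cU r (hle2 hr) (mem_c1.2 (comm_of_sq (el2 r hr) s1.sq (el' hel _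
    (mul_mem_of_relIndex c'.relS.dvd (e ▸ hle2 hr) (e ▸ s1.aS) (iff_of_false r2 ha))))))

end CB

/-- in case B, either the Sylow 2-subgroup is abelian or `O₂(C(z))` has a unique involution -/
theorem CB.uniq [IsSimpleGroup G] (hG : ¬ IsMulCommutative G) {z y b : G} {Q O : Subgroup G}
    (c : CB z y b Q O) (h : Hyp G) :
    IsMulCommutative ↥(Q ⊔ zpowers b) ∨ ∀ u ∈ Q, orderOf u = 2 → u = z := by
  refine or_iff_not_imp_left.2 fun hc => (exists_u c.tri c.hz c.zQ c.leS c.yz (c.fix h).le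
    (c.leS.trans c.nQ)).resolve_left fun ⟨u, hu, st⟩ => ?_
  obtain rfl := c.core hG h hu st
  by_cases hZ : oz (Q ⊔ zpowers b) ≤ zpowers z
  · exact c.caseII h hZ hu st
  · obtain ⟨x, h1, h2⟩ := SetLike.not_le_iff_exists.1 hZ
    exact c.ib h (fun v hv => by_contra fun e => hc (c.small h hv e)) h1 h2

end Cfsg.Lib.Six
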