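import Cfsg.Agent.Lib.Six.Root
import Cfsg.Agent.Lib.Six.L33Cert

/-!
# Recognition of `L₃(3)`: a simple group of order 5616 with an involution centralizer `GL₂(3)`
-/

set_option autoImplicit false

namespace Cfsg.Lib.Six
open Subgroup Cfsg Cfsg.Lib Cfsg.Lib.FT Cfsg.Lib.GW Cfsg.Lib.BSW

variable {G : Type*} [Group G]

/-- the letters of the presentation -/
def lg (b s y n : G) (a : ℕ) : G := [1, b, s, y, y * y, n].getD a 1

theorem lg_prod {G' : Type*} [Group G'] (φ : G →* G') (b s y n : G) (w : List ℕ) :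
    φ (w.map (lg b s y n)).prod = (w.map (lg (φ b) (φ s) (φ y) (φ n))).prod := by
  rw [map_list_prod, List.map_map]
  refine congrArg (fun g => (w.map g).prod) (funext fun a => ?_)
  rcases a with _ | _ | _ | _ | _ | _ | _ <;> simp [lg]

theorem lg_hyp {b s y n : G} (hb : b * b = 1) (hs : s * s = 1) (hy : y * y * y = 1) (hn : n * n = 1)
    {H : Subgroup G} {hm : ℕ} {R : List ℕ} {W : List (List ℕ)}
    (hH : ∀ a, a < 16 → hm.testBit a = true → lg b s y n a ∈ H)
    (he : R = W.map TC.enc ∧ ∀ w ∈ W, ∀ a ∈ w, a < 16) (hW : ∀ w ∈ W, (w.map (lg b s y n)).prod = 1) :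
    TC.Hyp (lg b s y n) H 5456400 hm R := by
  refine TC.Hyp.of_words rfl (fun a ha => ?_) hH he hW
  interval_cases a
  exacts [inv_one.symm, (inv2 hb).symm, (inv2 hs).symm, eq_inv_of_mul_eq_one_left hy,
    eq_inv_of_mul_eq_one_right hy, (inv2 hn).symm, inv_one.symm, inv_one.symm, inv_one.symm,
    inv_one.symm, inv_one.symm, inv_one.symm, inv_one.symm, inv_one.symm, inv_one.symm, inv_one.symm]

theorem l33_model : ∃ b s y n : Matrix.SpecialLinearGroup (Fin 3) (ZMod 3), b * s ≠ s * b ∧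
    b * b = 1 ∧ s * s = 1 ∧ y * y * y = 1 ∧ n * n = 1 ∧ ∀ w ∈ L33C.l33W, (w.map (lg b s y n)).prod = 1 :=
  ⟨⟨!![1, 0, 0; 0, -1, 0; 0, 0, -1], by decide +kernel⟩,
    ⟨!![0, 1, 0; 1, 0, 0; 0, 0, -1], by decide +kernel⟩,
    ⟨!![1, 1, 0; 0, 1, 0; 0, 0, 1], by decide +kernel⟩,
    ⟨!![-1, 0, 0; 0, 0, 1; 0, 1, 0], by decide +kernel⟩, by decide +kernel⟩

theorem l33_iso [Finite G] [IsSimpleGroup G] {b s y n : G} (hb : b * b = 1) (hs : s * s = 1)
    (hy : y * y * y = 1) (hn : n * n = 1) (h : ∀ w ∈ L33C.l33W, (w.map (lg b s y n)).prod = 1)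
    (hgen : closure {b, s, y, n} = ⊤) (hc : Nat.card G = 5616) :
    Nonempty (G ≃* Matrix.ProjectiveSpecialLinearGroup (Fin 3) (ZMod 3)) := by
  obtain ⟨b0, s0, y0, n0, h0, hb0, hs0, hy0, hn0, h2⟩ := l33_model
  have h1 : ∀ w ∈ L33C.l33W, (w.map (lg (b, b0) (s, s0) (y, y0) (n, n0))).prod = 1 := fun w hw =>
    Prod.ext ((lg_prod (MonoidHom.fst G (Matrix.SpecialLinearGroup (Fin 3) (ZMod 3))) _ _ _ _ w).trans (h w hw))
      ((lg_prod (MonoidHom.snd G (Matrix.SpecialLinearGroup (Fin 3) (ZMod 3))) _ _ _ _ w).trans (h2 w hw))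
  have hb' : (b, b0) * (b, b0) = 1 := Prod.ext hb hb0
  have hs' : (s, s0) * (s, s0) = 1 := Prod.ext hs hs0
  have hy' : (y, y0) * (y, y0) * (y, y0) = 1 := Prod.ext hy hy0
  have hn' : (n, n0) * (n, n0) = 1 := Prod.ext hn hn0
  obtain ⟨-, h2⟩ := L33C.l33_card (lg_hyp (H := zpowers (y, y0)) hb' hs' hy' hn' (fun a ha h2 => by
    interval_cases a <;> first
      | exact absurd h2 (by decide) | exact mul_mem (mem_zpowers _) (mem_zpowers _) | simp [lg])
    L33C.l33_enc h1) (X := {(b, b0), (s, s0), (y, y0), (n, n0)}) (by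
    rintro x (rfl | rfl | rfl | rfl)
    · exact ⟨⟨1, by simp, by simp, rfl⟩, 1, by simp, by simp, (inv2 hb').symm⟩
    · exact ⟨⟨2, by simp, by simp, rfl⟩, 2, by simp, by simp, (inv2 hs').symm⟩
    · exact ⟨⟨3, by simp, by simp, rfl⟩, 4, by simp, by simp, eq_inv_of_mul_eq_one_left hy'⟩
    · exact ⟨⟨5, by simp, by simp, rfl⟩, 5, by simp, by simp, (inv2 hn').symm⟩)
  have h3 : Nat.card (zpowers (y, y0)) ≤ 3 := by
    rw [Nat.card_zpowers]
    exact orderOf_le_of_pow_eq_one (by norm_num) (by rw [pow_three', hy'])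
  let π := (MonoidHom.fst G _).comp (closure {(b, b0), (s, s0), (y, y0), (n, n0)}).subtype
  have h4 : Function.Surjective π := by
    rw [← MonoidHom.range_eq_top, MonoidHom.range_comp, range_subtype, MonoidHom.map_closure, ← hgen]
    simp [Set.image_insert_eq]
  let e := MulEquiv.ofBijective π (h4.bijective_of_nat_card_le (by omega))
  let φ := (QuotientGroup.mk' (center _)).comp
    (((MonoidHom.snd _ _).comp (Subgroup.subtype _)).comp e.symm.toMonoidHom)
  refine ⟨MulEquiv.ofBijective φ (Function.Injective.bijective_of_nat_card_le ?_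
    (PC.card_psl33.trans hc.symm).le)⟩
  refine (MonoidHom.ker_eq_bot_iff φ).1 (φ.normal_ker.eq_bot_or_eq_top.resolve_right fun k => h0 ?_)
  have h5 : e.symm s = ⟨(s, s0), subset_closure (by simp)⟩ := e.symm_apply_eq.2 rfl
  have h6 : (e.symm s).1.2 ∈ center _ := (QuotientGroup.eq_one_iff _).1 (k.ge (mem_top s))
  rw [h5] at h6
  exact mem_center_iff.1 h6 b0

namespace M48

theorem swap_nc : ∀ m, NC m → ∃ k, k * k = 1 ∧ k * m * k = z * m := by decide +kernel
theorem c_b : ∀ m, m * b = b * m → m = 1 ∨ m = z ∨ m = b ∨ m = z * b := by decide +kernel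
theorem inv_b : ∀ m : M48, m ^ 3 = 1 → b * m * b⁻¹ = m⁻¹ →
    m = 1 ∨ (m = y ∨ m⁻¹ = y) ∨ m = s * y * s ∨ m⁻¹ = s * y * s := by decide +kernel
theorem gen : ∀ a : M48, ∃ i < 4, ∃ j < 2, ∃ k < 3, ∃ l < 2, ∃ m < 3,
    a = (b * s) ^ i * b ^ j * y ^ k * s ^ l * y ^ m := by decide +kernel
theorem three : ∀ a : M48, a ^ 3 = 1 → a = 1 ∨ ∃ g, g * y * g⁻¹ = a := by decide +kernel
theorem c_six : ∀ m, m * (z * y) = z * y * m → ∃ i < 6, m = (z * y) ^ i := by decide +kernel

end M48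

/-- `φ` identifies `GL₂(3)` with the centralizer of an involution -/
structure LC (φ : M48 →* G) : Prop where
  inj : Function.Injective φ
  rng : φ.range = C1[φ M48.z]
  one : OneClass G

theorem GC.lc {t : G} {π : C1[t] →* M48} (h : GC t π) (hi : Function.Injective π) :
    ∃ φ : M48 →* G, LC φ := by
  let e := MulEquiv.ofBijective π ⟨hi, h.surj⟩
  refine ⟨C1[t].subtype.comp e.symm.toMonoidHom, (subtype_injective _).comp e.symm.injective, ?_, h.one⟩
  rw [MonoidHom.range_comp, MonoidHom.range_eq_top.2 e.symm.surjective, ← MonoidHom.range_eq_map,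
    range_subtype]
  have : e.symm M48.z = selfC t := e.symm_apply_eq.2 h.pit.symm
  simp only [MonoidHom.comp_apply, MulEquiv.coe_toMonoidHom, this]
  rfl

namespace LC
open M48
variable {φ : M48 →* G} (c : LC φ)
include c

theorem mem (m : M48) : φ m ∈ C1[φ z] := c.rng ▸ ⟨m, rfl⟩

theorem ex {g : G} (h : g ∈ C1[φ z]) : ∃ m, φ m = g := (c.rng.symm ▸ h : g ∈ φ.range)

theorem ord (m : M48) : orderOf (φ m) = orderOf m := orderOf_injective φ c.inj m

theorem hz : orderOf (φ z) = 2 := (c.ord z).trans (ord2 (by decide +kernel) (by decide +kernel))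
theorem hb : orderOf (φ b) = 2 := (c.ord b).trans (ord2 (by decide +kernel) (by decide +kernel))
theorem hy : orderOf (φ y) = 3 := (c.ord y).trans (ord3 (by decide +kernel) (by decide +kernel))

theorem four : Four (φ z) (φ b) :=
  ⟨c.hz, c.hb, c.inj.ne (by decide +kernel), mem_c1.1 (c.mem b)⟩

theorem card : Nat.card C1[φ z] = 48 := by
  rw [← c.rng, ← M48.card]; exact (Nat.card_congr (MonoidHom.ofInjective c.inj).toEquiv).symm

theorem hyp [Finite G] : Hyp G := by
  refine Hyp.of c.one (t := φ (z * y)) ((c.ord _).trans (orderOf_eq_of_pow_and_pow_div_prime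
    (by norm_num) (by decide +kernel) fun p hp h => ?_)) (le_antisymm (fun g hg => ?_)
      (zpowers_le.2 (self_mem_c1 _)))
  · have := Nat.le_of_dvd (by norm_num) h
    interval_cases p <;> first | exact absurd hp (by decide) | exact absurd h (by decide) | decide +kernel
  · obtain ⟨m, rfl⟩ := c.ex (g := g) (mem_c1_symm (by
      rw [show z = (z * y) ^ 3 by decide +kernel, map_pow]; exact pow_mem (mem_c1_symm hg) 3))
    obtain ⟨i, -, rfl⟩ := c_six m (c.inj (by rw [map_mul, map_mul φ _ m]; exact mem_c1.1 hg))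
    rw [map_pow]; exact pow_mem (mem_zpowers _) i

theorem all (a w : G) (ha : orderOf a = 2) (hw : orderOf w = 3) (h : w ∈ C1[a]) : IsConj (φ y) w := by
  obtain ⟨g, e⟩ := isConj_iff.1 (c.one a _ ha c.hz)
  obtain ⟨m, hm⟩ := c.ex (g := g * w * g⁻¹) (by rw [← e, c1_conj]; exact ⟨w, h, rfl⟩)
  rcases three m (c.inj (by rw [map_pow, hm, conj_pow, cube3 hw]; simp)) with rfl | ⟨k, rfl⟩
  · exact absurd (by simpa using hm.symm) (ne_one3 hw)
  · exact (isConj_iff.2 ⟨φ k, by rw [← map_inv, ← map_mul, ← map_mul, hm]⟩).trans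
      (isConj_iff.2 ⟨g, rfl⟩).symm

theorem exists_n : ∃ n : G, n * n = 1 ∧ n * φ b = φ b * n ∧ n * φ z * n = φ z * φ b := by
  obtain ⟨g, e⟩ := isConj_iff.1 (c.one _ _ c.hz c.hb)
  obtain ⟨m, hm⟩ := c.ex (g := g⁻¹ * φ z * g) (mem_c1.2 (by
    have := c.four.comm
    rw [← e] at this
    rw [← mul_right_inj g, ← mul_left_inj g⁻¹]
    simpa only [← mul_assoc, mul_inv_cancel, one_mul, mul_inv_cancel_right] using this.symm))
  obtain ⟨k, h1, h2⟩ := swap_nc m ⟨c.inj (by
    rw [map_mul, hm, map_one, mul_assoc, ← mul_assoc g, ← mul_assoc g, mul_inv_cancel, one_mul,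
      mul_assoc, ← mul_assoc (φ z), c.four.tt, one_mul, inv_mul_cancel]),
    fun h => c.four.t_ne (by rw [h, map_one, eq_comm, mul_assoc, inv_mul_eq_one] at hm; simpa using hm),
    fun h => c.four.ne (by rw [← e]; conv_lhs => rw [← h, hm]
                           group)⟩
  refine ⟨g * φ k * g⁻¹, ?_, ?_, ?_⟩
  · rw [conj_mul, ← map_mul, h1]; simp
  · rw [← e, conj_mul, conj_mul, mem_c1.1 (c.mem k)]
  · have := congrArg φ h2
    rw [map_mul, map_mul, map_mul, hm] at this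
    rw [← c.four.comm, ← e, show g * φ k * g⁻¹ * φ z * (g * φ k * g⁻¹) =
      g * (φ k * (g⁻¹ * φ z * g) * φ k) * g⁻¹ by group, this]
    group

theorem eq {a a' : M48} (h : a = a') : φ a = φ a' := congrArg φ h

theorem cube {n : G} (nn : n * n = 1) (nb : n * φ b = φ b * n) (nz : n * φ z * n = φ z * φ b) :
    (φ s * n) ^ 3 = 1 := by
  have e1 : φ s * n * φ z * (φ s * n)⁻¹ = φ b := by
    rw [mul_inv_rev, inv2 nn, show φ s * n * φ z * (n * (φ s)⁻¹) = φ s * (n * φ z * n) * (φ s)⁻¹ by group,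
      nz, ← map_inv, ← map_mul, ← map_mul, ← map_mul]
    exact c.eq (by decide +kernel)
  have e2 : φ s * n * φ b * (φ s * n)⁻¹ = φ z * φ b := by
    rw [mul_assoc (φ s), nb, show φ s * (φ b * n) * (φ s * n)⁻¹ = φ s * φ b * (φ s)⁻¹ by group,
      ← map_inv, ← map_mul, ← map_mul, ← map_mul]
    exact c.eq (by decide +kernel)
  have e3 : φ s * n * (φ z * φ b) * (φ s * n)⁻¹ = φ z := by rw [← conj_mul, e1, e2, c.four.vw]
  generalize φ s * n = ρ at e1 e2 e3
  have k : ∀ x, ρ * (ρ * (ρ * x * ρ⁻¹) * ρ⁻¹) * ρ⁻¹ = x → ρ ^ 3 * x = x * ρ ^ 3 := fun x h => by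
    conv_rhs => rw [← h]
    rw [pow_three']; group
  obtain ⟨m, hm⟩ := c.ex (mem_c1.2 (k _ (by rw [e1, e2, e3])))
  have h1 : ρ * φ m * ρ⁻¹ = φ m := by rw [hm]; group
  rcases c_b m (c.inj (by rw [map_mul, map_mul, hm]; exact k _ (by rw [e2, e3, e1]))) with
    rfl | rfl | rfl | rfl
  · rw [← hm, map_one]
  · exact absurd (e1.symm.trans h1) c.four.ne
  · exact absurd (e2.symm.trans h1) c.four.w_ne_v
  · rw [map_mul] at h1; exact absurd (h1.symm.trans e3) c.four.w_ne_t

theorem rel8 {n : G} (nn : n * n = 1) (nb : n * φ b = φ b * n) (nz : n * φ z * n = φ z * φ b) :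
    ∀ w ∈ L33C.l33W.take 8, (w.map (lg (φ b) (φ s) (φ y) n)).prod = 1 := by
  have k : ∀ w : List ℕ, (w.map (lg b s y 1)).prod = 1 →
      (w.map (lg (φ b) (φ s) (φ y) (φ 1))).prod = 1 := fun w h => by rw [← lg_prod, h, map_one]
  have e : φ b * (φ s * (φ b * φ s)) = φ z := by
    simp only [← map_mul]; exact c.eq (by decide +kernel)
  intro w hw
  simp only [L33C.l33W, List.take, List.mem_cons, List.not_mem_nil, or_false] at hw
  rcases hw with e | e | e | e | e | rfl | rfl | rfl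
  iterate 5 have := k w (by subst e; decide +kernel); subst e; exact this
  · simpa [lg, pow_succ, mul_assoc] using c.cube nn nb nz
  · simp [lg, ← mul_assoc, nb, mul_assoc _ n, nn, c.four.vv]
  · have : n * φ z * n * φ z * φ b = 1 := by rw [nz, mul_assoc, c.four.ww]
    simpa [lg, ← e, mul_assoc] using this

theorem key {g u : G} (hu : orderOf u = 3) (h1 : u ∈ C1[φ y]) (h2 : g * u * g⁻¹ ∈ C1[φ z])
    (h3 : g⁻¹ * φ b * g * u * (g⁻¹ * φ b * g)⁻¹ = u⁻¹) :
    g⁻¹ * φ y * g ∈ C1[φ y] ∨ g⁻¹ * (φ s * φ y * φ s) * g ∈ C1[φ y] := by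
  obtain ⟨m, hm⟩ := c.ex h2
  have e : u = g⁻¹ * φ m * g := by rw [hm]; group
  have e' : g⁻¹ * φ m⁻¹ * g ∈ C1[φ y] := by
    rw [map_inv, hm]; simpa [mul_assoc] using h1
  rw [← map_mul, ← map_mul]
  rcases inv_b m (c.inj (by rw [map_pow, hm, conj_pow, cube3 hu]; simp)) (c.inj (by
    rw [map_mul, map_mul, map_inv, map_inv, hm, conj_inv, ← h3]; group)) with
      rfl | (rfl | h) | rfl | h
  · exact absurd (by simpa using e) (ne_one3 hu)
  exacts [Or.inl (e ▸ h1), Or.inl (h ▸ e'), Or.inr (e ▸ h1), Or.inr (h ▸ e')]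

theorem iso [Finite G] [IsSimpleGroup G] (hG : Nat.card G = 5616) :
    Nonempty (G ≃* Matrix.ProjectiveSpecialLinearGroup (Fin 3) (ZMod 3)) := by
  obtain ⟨n, nn, nb, nz⟩ := c.exists_n
  have r8 := c.rel8 nn nb nz
  have ss : φ s * φ s = 1 := by rw [← map_mul, ← map_one φ]; exact c.eq (by decide +kernel)
  have yy : φ y * φ y * φ y = 1 := by rw [← pow_three', cube3 c.hy]
  have yi : φ y * φ y = (φ y)⁻¹ := eq_inv_of_mul_eq_one_left yy
  have sb : φ s * φ b * φ s = φ z * φ b := by simp only [← map_mul]; exact c.eq (by decide +kernel)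
  have sz : φ s * φ z * φ s = φ z := by simp only [← map_mul]; exact c.eq (by decide +kernel)
  have nzb : n * (φ z * φ b) * n = φ z := by
    rw [← nz]; simp only [← mul_assoc, nn, one_mul, mul_assoc _ n n, mul_one]
  have rho : n * (φ s * φ y * φ s) * n ∉ C1[φ y] := fun h => by
    have h1 := L33C.rho_mem (lg_hyp (H := C1[φ z]) c.four.vv ss yy nn (fun a ha h2 => by
      interval_cases a <;> first
        | exact absurd h2 (by decide) | exact c.mem _ | exact mul_mem (c.mem _) (c.mem _) | exact one_mem _)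
      L33C.rho_enc fun w hw => ?_)
    · rw [mem_c1.1 (show n ∈ C1[φ z] from h1), mul_assoc, nn] at nz
      exact c.four.v_ne (mul_left_cancel nz).symm
    · rcases (by decide : ∀ w ∈ L33C.rhoW, w ∈ L33C.l33W.take 8 ∨
        w = [3, 5, 2, 3, 2, 5, 4, 5, 2, 4, 2, 5]) w hw with h1 | rfl
      · exact r8 w h1
      · simpa [lg, yi, commutatorElement_def, mul_assoc, inv2 nn, inv2 ss] using
          commutatorElement_eq_one_iff_mul_comm.2 (mem_c1.1 h).symm
  have yb : φ b * φ y * (φ b)⁻¹ = (φ y)⁻¹ := by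
    simp only [← map_mul, ← map_inv]; exact c.eq (by decide +kernel)
  have yzb : φ z * φ b * φ y * (φ z * φ b)⁻¹ = (φ y)⁻¹ := by
    simp only [← map_mul, ← map_inv]; exact c.eq (by decide +kernel)
  obtain ⟨u, u1, u2, u3, u4⟩ := c.hyp.root c.four.alt c.hy (c.mem y) yzb c.card hG c.all
  obtain ⟨v, v1, v2, v3, v4⟩ := c.hyp.root c.four c.hy (c.mem y) yb c.card hG c.all
  have k1 := (c.key (g := n) u1 u2 (by
    rw [show φ z = n * (φ z * φ b) * n⁻¹ by rw [inv2 nn, nzb], c1_conj]; exact ⟨u, u3, rfl⟩) (by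
    rw [inv2 nn, nb, mul_assoc _ n n, nn, mul_one, ← u4, ← c.four.tw, mul_assoc (φ z), ← mem_c1.1 u3]
    group)).resolve_right (by rwa [inv2 nn])
  have i3 : (φ s * n * φ s)⁻¹ = φ s * n * φ s := by simp [inv2 nn, inv2 ss, mul_assoc]
  have k2 := (c.key (g := φ s * n * φ s) v1 v2 (by
    rw [show φ z = φ s * n * φ s * φ b * (φ s * n * φ s)⁻¹ by
      rw [i3, ← sz, ← nzb, ← sb]; group, c1_conj]; exact ⟨v, v3, rfl⟩) (by
    rw [i3, show φ s * n * φ s * φ b * (φ s * n * φ s) = φ z by rw [← sz, ← nzb, ← sb]; group,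
      v4])).resolve_right fun h => rho (by
    have := (c1_conj (φ s * n)⁻¹ _).ge ⟨_, mem_c1_symm h, rfl⟩
    simpa [inv2 nn, inv2 ss, mul_assoc, ← mul_assoc (φ s) (φ s), ← mul_assoc n n, ss, nn] using this)
  rw [inv2 nn] at k1
  rw [i3] at k2
  refine l33_iso c.four.vv ss yy nn (fun w hw => ?_) ?_ hG
  · rcases (by decide : ∀ w ∈ L33C.l33W, w ∈ L33C.l33W.take 8 ∨ w = [3, 5, 3, 5, 4, 5, 4, 5] ∨
      w = [3, 2, 5, 2, 3, 2, 5, 2, 4, 2, 5, 2, 4, 2, 5, 2]) w hw with h1 | rfl | rfl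
    · exact r8 w h1
    · simpa [lg, yi, commutatorElement_def, mul_assoc, inv2 nn, inv2 ss] using
        commutatorElement_eq_one_iff_mul_comm.2 (mem_c1.1 k1).symm
    · simpa [lg, yi, commutatorElement_def, mul_assoc, inv2 nn, inv2 ss] using
        commutatorElement_eq_one_iff_mul_comm.2 (mem_c1.1 k2).symm
  · set L := closure {φ b, φ s, φ y, n}
    have m1 : φ b ∈ L := subset_closure (by simp)
    have m2 : φ s ∈ L := subset_closure (by simp)
    have m3 : φ y ∈ L := subset_closure (by simp)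
    have m4 : n ∈ L := subset_closure (by simp)
    have m5 : ∀ a, φ a ∈ L := fun a => by
      obtain ⟨i, -, j, -, k, -, l, -, m, -, rfl⟩ := gen a
      simp only [map_mul, map_pow]
      exact mul_mem (mul_mem (mul_mem (mul_mem (pow_mem (mul_mem m1 m2) i) (pow_mem m1 j))
        (pow_mem m3 k)) (pow_mem m2 l)) (pow_mem m3 m)
    have h1 := GW.ncard_conj_mul' L (φ z)
    rw [inf_eq_right.2 (fun g hg => (c.ex hg).elim fun a e => e ▸ m5 a), c.card] at h1
    have h2 : (φ '' {a | NC a}).ncard ≤ {y | ∃ l ∈ L, l * φ z * l⁻¹ = y}.ncard :=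
      Set.ncard_le_ncard (by
        rintro _ ⟨a, ha, rfl⟩
        obtain ⟨g, rfl⟩ := nc_conj a ha
        refine ⟨φ g * φ s * n, mul_mem (mul_mem (m5 g) m2) m4, ?_⟩
        rw [map_mul, map_mul, map_inv, show φ b = φ s * (n * φ z * n) * φ s by
          rw [nz, ← sb]; simp only [← mul_assoc, ss, one_mul, mul_assoc _ (φ s) (φ s), mul_one]]
        simp [inv2 nn, inv2 ss, mul_assoc])
    rw [Set.ncard_image_of_injective _ c.inj, ← PC.Tab.cnt_eq,
      show tab48.cnt NC = 12 by decide +kernel] at h2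
    by_contra e
    have h3 := sm_card_dvd_factorial e
    have h4 := L.index_mul_card
    rw [hG] at h3 h4
    have h5 := (Nat.Prime.dvd_factorial (by norm_num : Nat.Prime 13)).1 ((by norm_num : 13 ∣ 5616).trans h3)
    nlinarith

end LC

end Cfsg.Lib.Six
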