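import Cfsg.Agent.Lib.InvChar.Tab
import Cfsg.Agent.Lib.Rank2.LyBl
import Cfsg.Agent.Lib.FT.BG3.Lift
import Cfsg.Agent.Lib.OrderChar.Tests

/-!
# A table model of `GL₂(3)` and its generalized characters vanishing off the roots of `-1`
-/

set_option autoImplicit false

namespace Cfsg.Lib.Six
open Subgroup Cfsg Cfsg.Lib Cfsg.Lib.PC Cfsg.Lib.BSW
open scoped ComplexConjugate

/-- the multiplication table of `GL₂(3)` -/
def tab48 : Tab where
  N := 48
  k := 6
  T := 0x5b65a38d302b6ca0f4135048a19232481df7aaad7615586152460b802e69dc7699432af61718540f4520e01cd39e7ea00b9a72a9a144c495b05c75968232cbe28648d5588aed26e4911463025d8a682402e69e134e79f20381a65c75558495350f42fb2baa391b04a8ae1ed5954d42c040fbaf80231969caea8e41ca2679a189149b0451985e8b4d39e7c494376922cb6ca6875c28992389e7cd3af69905b44615656512798f40b00c097a87203813521b984ab9a72c07de08c61715c7555a51c80e04a188e36fbacb53529a092a3ada6416cf40612446a3d05135d855628922baa390e08c65a0eebc615b0449618a69c02eda1d71f79148736c8299449a7aab2c0b2dbd85c519b75c7de8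072248ce3503d14944d6549a423196a18ae04a0e838d3d0a685131256ca2481deaab5d868232cb461524600e28648c099559c76ebc17cb6674528a124a8e42c0328a6db0655671d6416c721e7cd3aebcf4135259eaad76200c21446a60e020759524a9a701350f42e14661731969d72baa390d3a189149b128a6db1e7cbbc10a530200b2899e686244720381971d5561985e8a5350f42fb8d39e7eb8c495b06cb526aa16440f34e2077deaab5c92a9a131256c11524600d968232cb402e69e291c7555afb985211a3baf0e09442078e4ae69c02ec5135955c51816dd71f78230e3503d18492a9a196aab5262279f38d9e63d049118495b05d24aa6862aacb02cb6fb996838072248944d65423057235e175c79f86238dbeeb124461559449e6a092a390b00c09761a6416c70cf41352aaed588a602c008c0e069971d5481ca26686245250f42fb851985e8a6baa390d79b04496db169ce4df5d8aea1c892338d4200eebc56c11254d65492a69c02edb0231969d7e18914a8a4f19c51ea6828905b1c879f35968232d1854914135251228648c02eaad76157200eebe69ceb163dd8e4aab69961759551b044962803baf3ce34c0adb28a669ca2481df7461524402d385e41c7de71d1855959449d14a188dbeeb2d00c097629a092a390720381a05350f42baa63992dbaab617baf1856c110380722338d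40f9c02edb144d654929d71f7826514a18a9a2590c99a55675c80379f3022efbacb544528629a51081e392baa9a185c518168e3503c92804db9d924aa2908cb2d18549a6416c879f34e8648c02cf41352511559c76a5eebe00e79911eb89851355665a75caea8cc08b00fbaf80389149b0481ca2679a8a6db0561e7cd3a512440685720724a617a294d43c615244365a08c39e7eba802e69e284495b05c56cb6fba48d081d3569e612514605b75c7d762aac0b2dbee3503d14838072248c92a9a1459968232285e2d3395862491b6c146556729a092a42c03027cd3aebda6416c722512798f4d762aac381d8d07946c1944a299a740f3acb6fb9a5d8aab79d70a2648e284381244615650b00c08720d6557d31c88033d0bee1466144d654a9a700baa390d38231969d71b04496146db28a5f797262ad26996c14d49448a19103ce342b6ca29ad761558a2481df7a00eebc64a69c02dd723305a911854529a78a134e78b00c098a6824a75558494720381a66fbacb533e392ba816df5d4710803bee00bb6c5135a79a51078e4aea71f7823185c51816d14a188e429a0929a65520d74f65a30292300b3d04e189148120728959c76aae8a6db051aebe00de3679a51185d46df54eb2dbaf8a10e07de76392baa89e69445544d24416da6585cc08b0103881ca24519ca4f58d1465d879faea00b98e3503d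20e01c895b05c7492a9a144ecb6fb990a48e285656745a10c4d440f8e434e08c66aad76162892070449618a00eebc616db28a6601f79d71245a5676cb00b9e65561251c80dd71f78c617146bacb535114a188e36392baa92416da6503e00a8bca8a18e471daaba29b565544d105b699be00de7cc08b0103e79a51082985c518e36c487b8934e7de6c171d24aa65127990491185b6fb9969762aacb0248e28431d65544cc0a83e0b08aea923125862803b816da657595513b28a669d03ce34c09f79d70a21244614b02f609b4771d595b2d4d445286ebe00df3022c092baa9a279a51081c16da6581503ce34a2627978c612505bbee65a5d8aadb28a6740f38d8e284381f79d70a2565544d218c08b0081eb99190592386251349105b69559c76ba29b6c08b0103eebe00de7c81ca2679451985cd399aa630408c6994526c12072a28648cb3d04d4a6db0519559c76aade7cd3ae82512799760902fa03a29b2d34ebaf69905f79d7099238a112798f41244615655762aacb3038072144db2809422891c849180365a0851985e94d43d02e69e284d39e7eba9c7555846efbacb6390ca25001beeb6caeaa689e69648e28607de75c6da6585d65544d24503ce34c2ca2481c61440c2040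
  J := 0x29f92a3ec3a832696d4225d5b944866da11885681e25d223ae93672ef4d115c1d90c2040

instance good48 : tab48.Good := by
  have h1 : allLt 48 (fun a => allLt 48 fun b => allLt 48 fun c => Nat.beq
      (tab48.mulN (tab48.mulN a b) c) (tab48.mulN a (tab48.mulN b c))) = true := by decide +kernel
  simp only [allLt_iff] at h1
  exact ⟨by decide, fun a ha b hb c hc => Nat.eq_of_beq_eq_true (h1 a ha b hb c hc),
    by decide +kernel, by decide +kernel⟩

/-- the model of `GL₂(3)` -/
abbrev M48 : Type := tab48.El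

namespace M48

def z : M48 := tab48.el 1
def b : M48 := tab48.el 2
def s : M48 := tab48.el 3
def y : M48 := tab48.el 4

theorem card : Nat.card M48 = 48 := Tab.card_El

/-- packed matrix entries -/
def codes : ℕ := 0x9198d28da69b71a71b69c4e469449d49c4dc4dc52449d52452472352476271b91a6dc69c52371a7629197238da8da8926da69389365465449c6936948d289389265489269365449d6934dc6946dc49c5235237626dc72372291991a8da72372276291a91a8937226da8d26944e452349d4e44dc71b71a8d269c69b89369c6da71a4e472291989269b49c69b6da71b6dc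

/-- matrix entries over `ℤ[√-2]` -/
def ent (a : M48) (i : ℕ) : ℤ√(-2) :=
  ⟨(app 3 codes (8 * a.val + 2 * i) : ℕ) - 3, (app 3 codes (8 * a.val + 2 * i + 1) : ℕ) - 3⟩

theorem ent_mul : ∀ a b : M48, ent (a * b) 0 = ent a 0 * ent b 0 + ent a 1 * ent b 2 ∧
    ent (a * b) 1 = ent a 0 * ent b 1 + ent a 1 * ent b 3 ∧
    ent (a * b) 2 = ent a 2 * ent b 0 + ent a 3 * ent b 2 ∧
    ent (a * b) 3 = ent a 2 * ent b 1 + ent a 3 * ent b 3 := by decide +kernel

/-- the faithful representation of degree two -/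
def rho : M48 →* Matrix (Fin 2) (Fin 2) (ℤ√(-2)) where
  toFun a := !![ent a 0, ent a 1; ent a 2, ent a 3]
  map_one' := by decide +kernel
  map_mul' a b := by
    obtain ⟨h1, h2, h3, h4⟩ := ent_mul a b
    rw [Matrix.mul_fin_two, h1, h2, h3, h4]

theorem equivGL : Nonempty (GL (Fin 2) (ZMod 3) ≃* M48) := by
  let r : ℤ√(-2) →+* ZMod 3 := Zsqrtd.lift ⟨2, by decide⟩
  let f : M48 →* Matrix (Fin 2) (Fin 2) (ZMod 3) := r.mapMatrix.toMonoidHom.comp rho
  have h : ∀ a, f a = 1 → a = 1 := by decide +kernel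
  refine ⟨(MulEquiv.ofBijective f.toHomUnits (Function.Injective.bijective_of_nat_card_le
    ((injective_iff_map_eq_one _).2 fun a e => h a (congrArg Units.val e)) ?_)).symm⟩
  have : Fact (Nat.Prime 3) := ⟨by norm_num⟩
  rw [card, Matrix.card_GL_field]; simp [Fin.prod_univ_two]

/-- the embedding of `ℤ[√-2]` into the complex numbers -/
noncomputable def io : ℤ√(-2) →+* ℂ := Zsqrtd.lift ⟨Complex.I * Real.sqrt 2, by
  rw [mul_mul_mul_comm, Complex.I_mul_I, ← Complex.ofReal_mul, Real.mul_self_sqrt two_pos.le]; simp⟩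

theorem io_star (x : ℤ√(-2)) : io (star x) = conj (io x) := by
  simp [io, Zsqrtd.lift]

def psi (a : M48) : ℤ√(-2) := ent a 0 + ent a 3
def eps (a : M48) : ℤ√(-2) := ent a 0 * ent a 3 - ent a 1 * ent a 2
def ph3 (a : M48) : ℤ√(-2) := psi a * psi a - eps a
def ph2 (a : M48) : ℤ√(-2) := ph3 a * ph3 a - 1 - ph3 a - eps a * ph3 a

/-- the five generalized characters -/
def th (i : Fin 5) (a : M48) : ℤ√(-2) :=
  ![ph2 a - psi a, ph2 a - eps a * psi a, 1 + eps a * ph3 a - psi a * ph2 a,
    eps a + ph3 a - psi a * ph2 a, 1 + ph2 a - ph3 a] i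

/-- the five generalized characters, with complex values -/
noncomputable def Th (i : Fin 5) : M48 → ℂ := fun a => io (th i a)

theorem isGen_Th (i : Fin 5) : IsGeneralizedCharacter M48 (Th i) := by
  have h1 : IsGeneralizedCharacter M48 fun a => io (psi a) := by
    convert (FT.isCharacter_trace_mul (io.mapMatrix.toMonoidHom.comp rho) (one_mul 1)
      fun _ => Commute.one_right _).isGen with a
    simp [psi, rho, Matrix.trace_fin_two]
  have h2 : IsGeneralizedCharacter M48 fun a => io (eps a) := by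
    convert (isIrrCharacter_of_hom (io.toMonoidHom.comp (Matrix.detMonoidHom.comp rho))).isGen with a
    simp [eps, rho, Matrix.det_fin_two]
  have h3 : IsGeneralizedCharacter M48 fun a => io (ph3 a) := by
    convert (h1.mul h1).sub h2 using 2; simp [ph3]
  have h4 : IsGeneralizedCharacter M48 fun a => io (ph2 a) := by
    convert (((h3.mul h3).sub isGen_one).sub h3).sub (h2.mul h3) using 2; simp [ph2]
  fin_cases i
  · convert h4.sub h1 using 1; ext; simp [Th, th]
  · convert h4.sub (h2.mul h1) using 1; ext; simp [Th, th]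
  · convert (isGen_one.add (h2.mul h3)).sub (h1.mul h4) using 1; ext; simp [Th, th]
  · convert (h2.add h3).sub (h1.mul h4) using 1; ext; simp [Th, th]
  · convert (isGen_one.add h4).sub h3 using 1; ext; simp [Th, th]

theorem sum_eq {R : Type*} [AddCommMonoid R] (f : M48 → R) :
    ∑ a, f a = ∑ i ∈ Finset.range 48, f (tab48.el i) := by
  rw [← Fin.sum_univ_eq_sum_range (fun i => f (tab48.el i))]
  exact Fintype.sum_equiv Tab.equivFin _ _ fun a => by congr 1; exact (Tab.el_val a).symm

/-- the Gram matrix -/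
def gram : Fin 5 → Fin 5 → ℤ :=
  ![![2, 1, 0, 0, 1], ![1, 2, 0, 0, 1], ![0, 0, 3, 1, 1], ![0, 0, 1, 3, -1], ![1, 1, 1, -1, 3]]

theorem inner_Th (i j : Fin 5) : classInner (Th i) (Th j) = gram i j := by
  have : ∀ i j, ∑ k ∈ Finset.range 48, th i (tab48.el k) * star (th j (tab48.el k)) =
      48 * gram i j := by decide +kernel
  have h := congrArg io (this i j)
  rw [← sum_eq fun a => th i a * star (th j a)] at h
  simp only [map_sum, map_mul, io_star, map_ofNat, map_intCast] at h
  rw [classInner, card]; simp only [Th, h]; simp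

theorem inner_one (i : Fin 5) : classInner (Th i) 1 = (![0, 0, 1, 0, 1] i : ℤ) := by
  have : ∀ i, ∑ k ∈ Finset.range 48, th i (tab48.el k) = 48 * (![0, 0, 1, 0, 1] i : ℤ) := by
    decide +kernel
  have h := congrArg io (this i)
  rw [← sum_eq (th i)] at h
  simp only [map_sum, map_mul, map_ofNat, map_intCast] at h
  rw [classInner, card]; simp only [Th, Pi.one_apply, map_one, mul_one, h]; simp

theorem th_supp : ∀ i a, th i a ≠ 0 → a = z ∨ a ^ 2 = z ∨ a ^ 3 = z ∨ a ^ 4 = z := by decide +kernel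

/-- noncentral involutions -/
abbrev NC (a : M48) : Prop := a * a = 1 ∧ a ≠ 1 ∧ a ≠ z

theorem th_nc : ∀ i a, NC a → th i (a * z) = 0 ∧ th i (z * a) = 0 := by decide +kernel
theorem th_zz : ∀ i, th i (z * z) = 0 := by decide +kernel
theorem nc_conj : ∀ a, NC a → ∃ g, g * b * g⁻¹ = a := by decide +kernel
theorem nc_b : NC b := by decide +kernel
theorem central : ∀ a : M48, (∀ g, g * a = a * g) ↔ a = 1 ∨ a = z := by decide +kernel

theorem pairs (i : Fin 5) : ∑ v, (if NC v then ∑ u, if NC u then Th i (u * v) else 0 else 0) =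
    (![0, 0, 192, 192, 96] i : ℤ) := by
  have : ∀ i, ∑ k ∈ Finset.range 48, (if NC (tab48.el k) then ∑ l ∈ Finset.range 48,
      if NC (tab48.el l) then th i (tab48.el l * tab48.el k) else 0 else 0) =
      (![0, 0, 192, 192, 96] i : ℤ) := by decide +kernel
  have h := congrArg io (this i)
  simp only [map_sum, apply_ite io, map_zero, map_intCast] at h
  simp only [sum_eq]
  exact h

theorem comb : 2 • Th 0 + 2 • Th 1 + 3 • Th 2 + Th 3 - 2 • Th 4 = clsFun z := by
  have : ∀ a, 2 * th 0 a + 2 * th 1 a + 3 * th 2 a + th 3 a - 2 * th 4 a =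
    if a = z then 48 else 0 := by decide +kernel
  ext a
  have h := congrArg io (this a)
  simp only [map_sub, map_add, map_mul, map_ofNat, apply_ite io, map_zero] at h
  simp only [Pi.add_apply, Pi.sub_apply, Pi.smul_apply]
  simp only [nsmul_eq_mul, Th, Nat.cast_ofNat, h]
  split_ifs with e
  · rw [e, clsFun_self, centralizer_eq_top_iff_subset.2 (Set.singleton_subset_iff.2
      (mem_center_iff.2 ((central z).2 (Or.inr rfl)))), card_top, card]; rfl
  · rw [clsFun_of_not_isConj fun hc => e ?_]
    obtain ⟨g, rfl⟩ := isConj_iff.1 hc.symm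
    rw [(central z).2 (Or.inr rfl), mul_inv_cancel_right]

theorem inB0 (χ : M48 → ℂ) (hχ : IsIrrCharacter M48 χ) : InB0 2 χ := by
  classical
  refine inB0_of_inner_ne_zero hχ isIrrCharacter_one inB0_one fun e => ?_
  have h1 : ∀ a : M48, a ^ 3 = 1 → a = 1 ∨ ∃ g, g * y * g⁻¹ = a := by decide +kernel
  have h2 : ∀ a : M48, (if 2 ∣ orderOf a then 0 else χ a) =
      ((if a = 1 then 1 else 0 : ℤ) : ℂ) * χ 1 + ((if a ≠ 1 ∧ a ^ 3 = 1 then 1 else 0 : ℤ) : ℂ) * χ y := by
    intro a
    have h3 : ¬ 2 ∣ orderOf a ↔ a ^ 3 = 1 := by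
      rw [← orderOf_dvd_iff_pow_eq_one]
      refine ⟨fun h => ?_, fun h h' => absurd (h'.trans h) (by decide)⟩
      have := orderOf_dvd_natCard a
      rw [card, show 48 = 2 ^ 4 * 3 from rfl] at this
      exact ((Nat.prime_two.coprime_iff_not_dvd.2 h).symm.pow_right 4).dvd_of_dvd_mul_left this
    by_cases h4 : a ^ 3 = 1
    · rw [if_neg (h3.2 h4)]
      rcases eq_or_ne a 1 with rfl | h5
      · simp
      · obtain ⟨g, rfl⟩ := (h1 a h4).resolve_left h5
        simp [h4, h5, hχ.isClassFunction y g]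
    · have h5 : a ≠ 1 := fun e => h4 (by rw [e, one_pow])
      simp [not_not.1 (mt h3.1 h4), h4, h5]
  have h3 : ∑ a : M48, (if a ≠ 1 ∧ a ^ 3 = 1 then 1 else 0 : ℤ) = 8 := by
    rw [sum_eq]; decide +kernel
  simp only [classInner, h2, Pi.one_apply, map_one, mul_one, Finset.sum_add_distrib, ← Finset.sum_mul,
    ← Int.cast_sum, h3, Finset.sum_ite_eq', Finset.mem_univ, if_true, card] at e
  obtain ⟨d, hd⟩ := hχ.isCharacter.exists_one_eq
  have h4 : χ y = ((-d / 8 : ℚ) : ℂ) := by
    push_cast at e ⊢; linear_combination 6 * e - hd / 8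
  obtain ⟨m, hm⟩ := exists_int_of_isIntegral_rat (h4 ▸ hχ.isCharacter.isIntegral y)
  have h5 := OC.sq_le_card_centralizer (χ := ⟨χ, hχ⟩) (g := 1) (a := d) hd
  have h6 : (d : ℤ) = -8 * m := by
    have : (d : ℚ) = -8 * m := by linear_combination -8 * hm
    exact_mod_cast this
  have h7 : d ≠ 0 := fun e => hχ.one_ne_zero (by rw [hd, e, Nat.cast_zero])
  have h8 := card ▸ card_le_card_group (centralizer {(1 : M48)})
  have h9 : 8 ≤ (d : ℤ) := by omega
  have : (d : ℤ) ^ 2 ≤ 48 := h5.trans (by exact_mod_cast h8)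
  nlinarith

end M48

end Cfsg.Lib.Six
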