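import Cfsg.Agent.Lib.Six.Core

/-!
# Root elements in a group of order 5616 with involution centralizers of order 48
-/

set_option autoImplicit false

namespace Cfsg.Lib.Six
open Subgroup Cfsg Cfsg.Lib Cfsg.Lib.FT Cfsg.Lib.GW Cfsg.Lib.BSW
open scoped commutatorElement

variable {G : Type*} [Group G] [Finite G]

theorem Hyp.le_oc (h : Hyp G) {y : G} (hy : orderOf y = 3) {A : Subgroup G} (hA : A ≤ C1[y])
    (ho : Odd (Nat.card A)) : A ≤ O[C1[y]] := by
  refine le_piCoreOf_of_hasNormalPComplement ?_ hA (not_two_dvd ho)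
  obtain ⟨P⟩ : Nonempty (Sylow 2 C1[y]) := inferInstance
  refine hasNormalPComplement_two_of_isCyclic P ((P.1.equivMapOfInjective _
    C1[y].subtype_injective).isCyclic.2 ?_)
  have h1 := h.fix2 hy (P.isPGroup'.map C1[y].subtype)
  rw [inf_eq_left.2 (map_subtype_le _)] at h1
  rcases h1 with e | ⟨a, -, e⟩ <;> rw [e] <;> infer_instance

theorem conj_mul_of_27 {P : Subgroup G} (hP : Nat.card P = 27) {t y p : G} (ht : orderOf t = 3)
    (htP : t ∈ P) (hc : t ∈ C[P]) (hy : y ∈ P) (hp : p ∈ P) : p * y * p⁻¹ * y⁻¹ ∈ zpowers t := by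
  have hn : ((zpowers t).subgroupOf P).Normal := normal_subgroupOf_of_le_normalizer
    ((le_c1_iff.2 hc).trans (c1_le_nz t))
  have h1 := card_eq_card_quotient_mul_card_subgroup ((zpowers t).subgroupOf P)
  rw [hP, Nat.card_congr (subgroupOfEquivOfLe (zpowers_le.2 htP)).toEquiv, card3 ht] at h1
  have h2 := IsPGroup.isMulCommutative_of_card_eq_prime_sq (p := 3)
    (G := P ⧸ (zpowers t).subgroupOf P) (by omega)
  have h3 : (QuotientGroup.mk (⟨p, hp⟩ * ⟨y, hy⟩ * (⟨p, hp⟩ : P)⁻¹ * (⟨y, hy⟩ : P)⁻¹) :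
      P ⧸ (zpowers t).subgroupOf P) = 1 := by
    simp only [QuotientGroup.mk_mul, QuotientGroup.mk_inv]
    rw [h2.is_comm.comm (QuotientGroup.mk (⟨p, hp⟩ : P))]; group
  exact mem_subgroupOf.1 ((QuotientGroup.eq_one_iff _).1 h3)

theorem Hyp.root (h : Hyp G) {z v y : G} (hf : Four z v) (hy : orderOf y = 3) (yz : y ∈ C1[z])
    (hv : v * y * v⁻¹ = y⁻¹) (h48 : Nat.card C1[z] = 48) (hG : Nat.card G = 5616)
    (hall : ∀ a w, orderOf a = 2 → orderOf w = 3 → w ∈ C1[a] → IsConj y w) :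
    ∃ u, orderOf u = 3 ∧ u ∈ C1[y] ∧ u ∈ C1[v] ∧ z * u * z⁻¹ = u⁻¹ := by
  have e0 : C1[y⁻¹] = C1[y] := c1_eq3 hy (inv_mem (mem_zpowers y)) (inv_ne_one.2 (ne_one3 hy))
  have hK := odd_oc C1[y]
  have nz : z ∈ N[O[C1[y]]] := le_normalizer_piCoreOf _ _ (mem_c1_symm yz)
  have nv : v ∈ N[O[C1[y]]] := normalizer_le_normalizer_piCoreOf _ _
    (mem_normalizer_iff_map_conj.2 (((c1_conj v y).symm.trans (by rw [hv])).trans e0))
  have h3 : ∀ a, orderOf a = 2 → Nat.card ↥(O[C1[y]] ⊓ C1[a]) ∣ 3 := fun a ha => by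
    have h1 := card_dvd_of_le (inf_le_right : O[C1[y]] ⊓ C1[a] ≤ _)
    rw [sm_card_centralizer_of_isConj (h.oc z a hf.ht ha), h48, show 48 = 2 ^ 4 * 3 from rfl] at h1
    exact ((Nat.coprime_two_right.2 (odd_of_le hK inf_le_left)).pow_right 4).dvd_of_dvd_mul_left h1
  rcases (Nat.dvd_prime Nat.prime_three).1 (h3 v hf.hv) with e | e
  · exfalso
    have hi : ∀ a ∈ O[C1[y]], v * a * v⁻¹ = a⁻¹ := fun a ha => inverts_of_fixedPointFree hf.vv nv
      (fun a ha h1 => mem_bot.1 ((eq_bot_of_card_eq _ e).le ⟨ha, mem_c1.2 h1.symm⟩)) ha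
    have hz : O[C1[y]] ⊓ C1[z] ≤ zpowers y := fun g hg =>
      h.three hf.ht hy yz hg.2 (oc_le _ hg.1) (odd_orderOf hK hg.1)
    have h9 : Nat.card O[C1[y]] ≤ 9 := by
      have h1 := hf.le_of_odd (X := (O[C1[y]] ⊓ C1[z * v]) ⊔ zpowers y) hK nz nv (hz.trans le_sup_right)
        ((eq_bot_of_card_eq _ e).le.trans bot_le) le_sup_left
      have h2 := card_sup_le ((inf_le_left.trans (oc_le _)).trans (c1_le_nz y) :
        O[C1[y]] ⊓ C1[z * v] ≤ _)
      have h4 := Nat.le_of_dvd (by norm_num) (h3 _ hf.hw)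
      have h5 := card_le_of_le h1
      rw [card3 hy] at h2
      omega
    have n27 : ∀ w, IsConj y w → ¬ 27 ∣ Nat.card C1[w] := fun w hw h1 => by
      rw [sm_card_centralizer_of_isConj hw] at h1
      obtain ⟨R, hR⟩ := Sylow.exists_subgroup_card_pow_prime 3 (n := 3) h1
      have h2 := card_le_of_le (h.le_oc hy (map_subtype_le R) (by rw [card_subtype, hR]; decide))
      rw [card_subtype, hR] at h2
      omega
    obtain ⟨S, hS⟩ := (pgroup3 hy).exists_le_sylow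
    have hP : Nat.card S = 27 := by
      rw [Sylow.card_eq_multiplicity, hG, ← Nat.primeFactorsList_count_eq]; decide +kernel
    have yS : y ∈ (S : Subgroup G) := hS (mem_zpowers y)
    obtain ⟨t, tS, ht, tc⟩ := pg_exists_fixed_of_order_p S.isPGroup' S.isPGroup' le_normalizer
      (fun e => by rw [e, card_bot] at hP; omega)
    have t27 : 27 ∣ Nat.card C1[t] := hP ▸ card_dvd_of_le (le_c1_iff.2 tc)
    have ty : t ∈ C1[y] := mem_c1.2 (tc y yS).symm
    have tK : t ∈ O[C1[y]] := h.le_oc hy (zpowers_le.2 ty) (by rw [card3 ht]; decide) (mem_zpowers t)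
    have t'K := conj_mem_of_mem_normalizer' (inv_mem nz) tK
    rw [inv_inv, hf.t_inv] at t'K
    have nt : ¬ IsConj y (z * t * z) := fun e => n27 t (e.trans (isConj_iff.2 ⟨z, by
      rw [hf.t_inv, ← mul_assoc, ← mul_assoc, hf.tt, one_mul, mul_assoc, hf.tt, mul_one]⟩)) t27
    have yy : IsConj y y⁻¹ := isConj_iff.2 ⟨v, hv⟩
    obtain ⟨p, pS, py⟩ : ∃ p ∈ (S : Subgroup G), p ∉ C1[y] := by
      by_contra! e
      exact n27 y (IsConj.refl y) (hP ▸ card_dvd_of_le e)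
    have k : IsConj y (t * y) ∧ IsConj y (t⁻¹ * y) := by
      have h1 := conj_mul_of_27 hP ht tS tc yS pS
      have h2 := conj_mul_of_27 hP ht tS tc yS (inv_mem pS)
      have h4 : ∀ c ∈ zpowers t, p * y * p⁻¹ = c * y → p⁻¹ * y * p⁻¹⁻¹ = c⁻¹ * y := fun c hc e => by
        have := mem_c1.1 (mem_c1_symm (zpowers_le.2 (mem_c1_symm (le_c1_iff.2 tc pS)) hc))
        rw [inv_inv, eq_inv_mul_iff_mul_eq, ← mul_assoc, ← mul_assoc,
          show c * p⁻¹ = p⁻¹ * c by rw [mul_inv_eq_iff_eq_mul, mul_assoc, ← this, inv_mul_cancel_left],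
          mul_assoc p⁻¹, ← e]; group
      rcases (mem_zpowers3 (cube3 ht)).1 h1 with e | e | e <;> rw [mul_inv_eq_iff_eq_mul] at e
      · exact absurd (mem_c1.2 (by rw [← mul_inv_eq_iff_eq_mul, e, one_mul])) py
      · exact ⟨isConj_iff.2 ⟨p, e⟩, isConj_iff.2 ⟨_, h4 t (mem_zpowers t) e⟩⟩
      · exact ⟨isConj_iff.2 ⟨_, (h4 _ (inv_mem (mem_zpowers t)) e).trans (by rw [inv_inv])⟩,
          isConj_iff.2 ⟨p, e⟩⟩
    have h5 : t * (z * t * z) ∈ zpowers y := hz ⟨mul_mem tK t'K, mem_c1.2 (by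
      rw [mul_assoc t, mul_assoc (z * t), hf.tt, comm_of_inverts hi tK t'K]
      simp only [← mul_assoc, hf.tt, one_mul, mul_one])⟩
    rcases (mem_zpowers3 (cube3 hy)).1 h5 with e | e | e
    · refine n27 t (hall _ t hf.hw ht (mem_c1.2 ?_)) t27
      rw [mul_assoc z, mul_inv_eq_iff_eq_mul.1 (hi t tK), ← eq_inv_of_mul_eq_one_right e]
      simp only [← mul_assoc, hf.tt, one_mul]
    · exact nt (by rw [eq_inv_mul_of_mul_eq e]; exact k.2)
    · refine nt (yy.trans ?_)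
      rw [eq_inv_mul_of_mul_eq e, ← mul_inv_rev, ← mem_c1.1 ty]
      obtain ⟨g, hg⟩ := isConj_iff.1 k.1
      exact isConj_iff.2 ⟨g, by rw [← hg]; group⟩
  · obtain ⟨u, hu, ho⟩ := sm_exists_mem_orderOf_eq Nat.prime_three _ e.symm.dvd
    have h1 : zpowers u = O[C1[y]] ⊓ C1[v] :=
      eq_of_le_of_card_ge (zpowers_le.2 hu) (by rw [e, card3 ho])
    exact ⟨u, ho, oc_le _ hu.1, hu.2, inv_of_norm ho (h1 ▸ inf_normalizer_le_normalizer_inf
      ⟨nz, le_normalizer hf.t_mem⟩) fun e => h.not_c1 hf.symm ho hu.2 (mem_c1_symm e)⟩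

end Cfsg.Lib.Six
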