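import Cfsg.Agent.Lib.Six.Chain

/-!
# A normal four-subgroup and the element of order three rotating it
-/

set_option autoImplicit false

namespace Cfsg.Lib.Six
open Subgroup Cfsg Cfsg.Lib Cfsg.Lib.FT Cfsg.Lib.GW
open scoped commutatorElement

variable {G : Type*} [Group G]

theorem comm_cases {z a b : G} (hz : z * z = 1) (h : ⁅a, b⁆ ∈ zpowers z) :
    a * b = b * a ∨ a * b = z * (b * a) := by
  rcases (mem_zpowers_two hz).1 h with e | e
  · exact Or.inl (commutatorElement_eq_one_iff_mul_comm.1 e)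
  · right; rw [← e, commutatorElement_def]; group

theorem comm_zz {z a b c : G} (hz : z * z = 1) (hb : b ∈ C1[z]) (h1 : a * b = z * (b * a))
    (h2 : a * c = z * (c * a)) : b * c ∈ C1[a] := mem_c1.2 (by
  calc b * c * a = z * (z * b) * (c * a) := by rw [← mul_assoc z, hz]; group
    _ = z * (b * z) * (c * a) := by rw [mem_c1.1 hb]
    _ = z * b * (z * (c * a)) := by group
    _ = a * (b * c) := by rw [← h2, ← mul_assoc, mul_assoc z, ← h1, mul_assoc])

theorem comm_z_symm {z a b : G} (hz : z * z = 1) (h : a * b = z * (b * a)) : b * a = z * (a * b) := by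
  rw [h, ← mul_assoc, hz, one_mul]

variable [Finite G]

theorem exists_u {S P : Subgroup G} {z y : G} (h : Tri S P y) (hz : orderOf z = 2) (hzP : z ∈ P)
    (hS : S ≤ C1[z]) (hy : y ∈ C1[z]) (hf : P ⊓ C1[y] ≤ zpowers z) (hn : S ≤ N[P]) :
    (∃ u ∈ P, St S (zpowers z) u) ∨ ∀ u ∈ P, orderOf u = 2 → u = z := by
  have zz := mul_self2 hz
  rw [or_iff_not_imp_left]
  intro hno u hu ho
  push Not at hno
  have hSn : S ≤ N[zpowers z] := hS.trans (c1_le_nz z)
  have hno' : ∀ d ∈ P, d ∉ zpowers z → (∀ s ∈ S, ⁅d, s⁆ ∈ zpowers z) → d * d ≠ 1 :=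
    fun d h1 h2 h3 h4 => hno d h1 ⟨el_zpowers zz, hSn, h.le h1, h2, h4,
      C_zpowers z ▸ hS (h.le h1), h3⟩
  have key : ∀ D ≤ P, S ≤ N[D] → z ∈ D → ¬ D ≤ zpowers z →
      ∃ d ∈ D, d * d = z ∧ ∀ s ∈ S, ⁅d, s⁆ ∈ zpowers z := fun D h1 h2 h3 h4 => by
    obtain ⟨d, h5, h6, h7, h8⟩ := pg_exists_fixed_mod (h.two.to_le (h1.trans h.le)) h.two h2
      (lt_of_le_not_ge (zpowers_le.2 h3) h4) ((h1.trans h.le).trans hSn) hSn
    rw [pow_two, mem_zpowers_two zz] at h7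
    exact ⟨d, h5, h7.resolve_left (hno' d (h1 h5) h6 h8), h8⟩
  have fin : u ∈ zpowers z → u = z := fun e => ((mem_zpowers_two zz).1 e).resolve_left (ne_one2 ho)
  by_cases hP : P ≤ zpowers z
  · exact fin (hP hu)
  obtain ⟨x, hx, xx, hc⟩ := key P le_rfl hn hzP hP
  have hyz := c1_le_nz z hy
  have hc0 : ∀ r ∈ P, ⁅x, r⁆ ∈ zpowers z := fun r hr => hc r (h.le hr)
  have hc1 := comm_conj h.nR hyz hc0
  obtain ⟨n, h1, c, h2, e⟩ := trace h.hw (not3_of_two (h.two.to_le h.le)) h.nR hyz (h.le.trans hSn) hx hc0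
  have ht := e ▸ mul_mem h1 (hf h2)
  have sq : ∀ {a : G}, a * a = z → y * a * y⁻¹ * (y * a * y⁻¹) = z := fun {a} e => by
    rw [← conj_eq_of_c1 hy, ← e]; group
  have m1 := conj_mem_of_mem_normalizer h.nR hx
  have hcj := fun s hs => h.conj (s := s) hSn hyz hc hs
  have q1 := sq xx
  have q2 := sq q1
  generalize y * (y * x * y⁻¹) * y⁻¹ = x2 at *
  generalize y * x * y⁻¹ = x1 at *
  have sqz : ∀ {a b : G}, a ∈ C1[z] → a * b ∈ zpowers z → b * b = z → a * a = z := fun {a b} h3 h4 h5 => by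
    rcases (mem_zpowers_two zz).1 h4 with e | e
    · rw [eq_inv_of_mul_eq_one_left e, ← mul_inv_rev, h5, inv2 zz]
    · have e' : b = a⁻¹ * z := eq_inv_mul_of_mul_eq e
      rw [e', mul_assoc, ← mul_assoc z, ← mem_c1.1 (inv_mem h3), mul_assoc, zz, mul_one,
        ← mul_inv_rev, inv_eq_iff_eq_inv, inv2 zz] at h5
      exact h5
  have cz : ∀ {a}, a ∈ P → a ∈ C1[z] := fun ha => hS (h.le ha)
  have q3 : x * x1 * (x * x1) = z := sqz (cz (mul_mem hx m1)) ht q2
  have nc : x * x1 ≠ x1 * x := fun e => ne_one2 hz (by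
    rw [← q3, mul_assoc, ← mul_assoc x1, ← e, mul_assoc, q1, ← mul_assoc, xx, zz])
  have e0 := (comm_cases zz (hc0 x1 m1)).resolve_left nc
  have hD : P ⊓ C1[x] ⊓ C1[x1] ≤ zpowers z := by
    by_contra hD
    obtain ⟨d, h3, h4, h5⟩ := key _ (inf_le_left.trans inf_le_left) (fun s hs =>
      pg_mem_normalizer_of_conj_mem fun d hd => by
        have k0 : zpowers z ≤ C1[d] := zpowers_le.2 (mem_c1_symm (cz hd.1.1))
        have k1 := mem_c1_symm hd.1.2
        have k2 := mem_c1_symm hd.2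
        have k3 : x2 ∈ C1[d] := by
          have := mul_mem (inv_mem (mul_mem k1 k2)) (k0 ht)
          rwa [inv_mul_cancel_left] at this
        have k4 : ∀ {a}, s⁻¹ * a * s ∈ C1[d] → s * d * s⁻¹ ∈ C1[a] := fun {a} e => by
          have := conj_mem_conj (mem_c1_symm e) s
          rwa [← c1_conj, show s * (s⁻¹ * a * s) * s⁻¹ = a by group] at this
        refine ⟨⟨conj_mem_of_mem_normalizer (hn hs) hd.1.1, k4 ?_⟩, k4 ?_⟩
        · simpa [commutatorElement_def] using mul_mem (k0 (comm_symm (hc _ (inv_mem hs)))) k1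
        · rcases hcj _ (inv_mem hs) with e | e
          · simpa using mul_mem (k0 e) k2
          · simpa using mul_mem (k0 e) k3)
      ⟨⟨hzP, mem_c1_symm (cz hx)⟩, mem_c1_symm (cz m1)⟩ hD
    refine hno' (d * x) (mul_mem h3.1.1 hx) (fun e => nc (mem_c1.1 ?_))
      (fun s hs => comm_mul (hSn (h.le h3.1.1)) (h5 s hs) (hc s hs)) ?_
    · simpa using mul_mem (inv_mem (mem_inf.1 h3).2) (zpowers_le.2 (mem_c1_symm (cz m1)) e)
    · rw [mul_assoc, ← mul_assoc x, ← mem_c1.1 h3.1.2, mul_assoc, xx, ← mul_assoc, h4, zz]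
  have hv : ∀ v, v * v = z → u * v ∈ zpowers z → False := fun v h3 h4 =>
    ne_one2 hz ((sqz (cz hu) h4 h3).symm.trans (mul_self2 ho))
  rcases comm_cases zz (hc0 u hu) with e1 | e1 <;> rcases comm_cases zz (hc1 u hu) with e2 | e2
  · exact fin (hD ⟨⟨hu, mem_c1.2 e1.symm⟩, mem_c1.2 e2.symm⟩)
  · exact (hv x xx (hD ⟨⟨mul_mem hu hx, mul_mem (mem_c1.2 e1.symm) (self_mem_c1 x)⟩,
      comm_zz zz (cz hu) e2 (comm_z_symm zz e0)⟩)).elim
  · exact (hv x1 q1 (hD ⟨⟨mul_mem hu m1, comm_zz zz (cz hu) e1 e0⟩,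
      mul_mem (mem_c1.2 e2.symm) (self_mem_c1 x1)⟩)).elim
  · refine (hv _ q3 (hD ⟨⟨mul_mem hu (mul_mem hx m1), ?_⟩, ?_⟩)).elim
    · refine comm_zz zz (cz hu) e1 ?_
      rw [mul_assoc x x1 x, ← mul_assoc z, ← mem_c1.1 (cz hx), mul_assoc, ← e0]
    · rw [← mul_assoc]
      exact mul_mem (comm_zz zz (cz hu) e2 (comm_z_symm zz e0)) (self_mem_c1 x1)

/-- the centre of `S` has the unique involution `z`, and `⟨z,u⟩` is a normal four-subgroup -/
structure S2 (S : Subgroup G) (z u : G) : Prop where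
  hz : orderOf z = 2
  syl : IsSylowIn 2 S ⊤
  le : S ≤ C1[z]
  cen : oz S ≤ zpowers z
  st : St S (zpowers z) u

namespace S2
variable {S : Subgroup G} {z u : G} (c : S2 S z u)
include c

omit [Finite G] in
theorem zz : z * z = 1 := mul_self2 c.hz

omit [Finite G] in
theorem hu : orderOf u = 2 := ord2 (fun e => c.st.nm (e ▸ one_mem _)) c.st.sq

omit [Finite G] in
theorem four : Four z u := ⟨c.hz, c.hu, fun e => c.st.nm (e ▸ mem_zpowers _), mem_c1.1 (c.le c.st.aS)⟩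

theorem zS : z ∈ S := mem_syl c.syl c.zz (mem_top z) (centralizer_le_normalizer _ (le_c1_iff.1 c.le))

omit [Finite G] in
theorem conj_u {s : G} (hs : s ∈ S) (h : s ∉ C1[u]) : s * u * s⁻¹ = z * u := by
  rcases comm_cases c.zz (comm_symm (c.st.co s hs)) with e | e
  · exact absurd (mem_c1.2 e) h
  · rw [e]; group

omit [Finite G] in
theorem conj_u' {s : G} (hs : s ∈ S) : s * u * s⁻¹ = u ∨ s * u * s⁻¹ = z * u := by
  by_cases h : s ∈ C1[u]
  exacts [Or.inl (conj_eq_of_c1 h), Or.inr (c.conj_u hs h)]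

omit [Finite G] in
theorem ex_s : ∃ s ∈ S, s ∉ C1[u] := by
  by_contra e
  push Not at e
  exact c.st.nm (c.cen ⟨c.st.aS, le_c1_iff.1 e, c.st.sq⟩)

omit [Finite G] in
theorem mul_mem_T {s t : G} (hs : s ∈ S) (h : s ∉ C1[u]) (ht : t ∈ S) (h' : t ∉ C1[u]) :
    s * t ∈ S ⊓ C1[u] := ⟨mul_mem hs ht, mem_c1_of_conj (by
  calc _ = s * (t * u * t⁻¹) * s⁻¹ := by group
    _ = s * z * s⁻¹ * (s * u * s⁻¹) := by rw [c.conj_u ht h']; group
    _ = u := by rw [conj_eq_of_c1 (c.le hs), c.conj_u hs h, ← mul_assoc, c.zz, one_mul])⟩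

omit [Finite G] in
theorem relIndex_T : (S ⊓ C1[u]).relIndex S = 2 := by
  obtain ⟨s, hs, h⟩ := c.ex_s
  refine relIndex_eq_two_iff_exists_notMem_and.2 ⟨s, hs, fun e => h e.2, fun x hx => ?_⟩
  by_cases e : x ∈ C1[u]
  exacts [Or.inr ⟨hx, e⟩, Or.inl (c.mul_mem_T hx e hs h)]

omit [Finite G] in
theorem card_T : Nat.card S = 2 * Nat.card ↥(S ⊓ C1[u]) := by
  rw [← c.relIndex_T, relIndex_mul_card inf_le_left]

theorem nT : S ≤ N[S ⊓ C1[u]] := fun s hs => pg_mem_normalizer_of_conj_mem fun x hx => by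
  rw [mem_inf] at hx
  refine mem_inf.2 ⟨mul_mem (mul_mem hs hx.1) (inv_mem hs), ?_⟩
  by_contra e
  by_cases e' : s ∈ C1[u]
  · exact e (mul_mem (mul_mem e' hx.2) (inv_mem e'))
  · have := (mem_inf.1 (c.mul_mem_T (mul_mem (mul_mem hs hx.1) (inv_mem hs)) e hs e')).2
    rw [inv_mul_cancel_right] at this
    exact e' (by simpa using mul_mem this (inv_mem hx.2))

theorem nV : S ≤ N[GW.four z u] := fun s hs => Four.mem_normalizer
  (by rw [conj_eq_of_c1 (c.le hs)]; exact left_mem_four _ _) (by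
    rcases c.conj_u' hs with e | e <;> rw [e]
    exacts [right_mem_four _ _, mul_mem (left_mem_four _ _) (right_mem_four _ _)])

theorem oz_T : oz (S ⊓ C1[u]) = GW.four z u := by
  refine le_antisymm (fun a ha => ?_) (four_le_iff.2
    ⟨⟨⟨c.zS, c.four.t_mem⟩, le_c1_iff.1 (inf_le_left.trans c.le), c.zz⟩,
      ⟨⟨c.st.aS, self_mem_c1 u⟩, le_c1_iff.1 inf_le_right, c.st.sq⟩⟩)
  obtain ⟨s, hs, h⟩ := c.ex_s
  have fx : ∀ a ∈ oz (S ⊓ C1[u]), s ∈ C1[a] → a ∈ zpowers z := fun a ha h1 =>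
    c.cen ⟨ha.1.1, le_c1_iff.1 fun x hx => by
      by_cases e : x ∈ C1[u]
      · exact le_c1_iff.2 ha.2.1 ⟨hx, e⟩
      · simpa using mul_mem (le_c1_iff.2 ha.2.1 (c.mul_mem_T hx e hs h)) (inv_mem h1), ha.2.2⟩
  have hn := n_le_oz _ (c.nT hs)
  have h1 := conj_mem_of_mem_normalizer hn ha
  have h2 := fx _ (mul_mem ha h1) (mem_c1_of_conj (by
    have := conj_eq_of_c1 (le_c1_iff.2 ha.2.1 (c.mul_mem_T hs h hs h))
    calc _ = s * a * s⁻¹ * (s * s * a * (s * s)⁻¹) := by group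
      _ = _ := by rw [this, (el_oz _).comm h1 ha]))
  have hzV := zpowers_le.2 (left_mem_four z u)
  rcases (mem_zpowers_two c.zz).1 h2 with e | e
  · exact hzV (fx a ha (mem_c1_of_conj (by rw [eq_inv_of_mul_eq_one_right e, inv2 ha.2.2])))
  · have hu : u ∈ oz (S ⊓ C1[u]) := ⟨⟨c.st.aS, self_mem_c1 u⟩, le_c1_iff.1 inf_le_right, c.st.sq⟩
    have := hzV (fx _ (mul_mem ha hu) (mem_c1_of_conj (by
      calc _ = s * a * s⁻¹ * (s * u * s⁻¹) := by group
        _ = a * u := by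
          rw [c.conj_u hs h, eq_inv_mul_of_mul_eq e, inv2 ha.2.2, mul_assoc a, ← mul_assoc z, c.zz,
            one_mul])))
    simpa using mul_mem this (inv_mem (right_mem_four z u))

theorem exists_w (h : Hyp G) : ∃ w, Tri S (S ⊓ C1[u]) w ∧ Rot w z u := by
  set T := S ⊓ C1[u] with hT
  obtain ⟨s, hs, hsu⟩ := c.ex_s
  obtain ⟨S', h1, h2⟩ := exists_isSylowIn_ge (c.syl.isPGroup.to_inf_left (K := C1[u])) inf_le_right
  have h3 := h.oc.isSylowIn_top c.hu h1
  have hlt : T < S' := lt_of_le_of_ne h2 fun e => by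
    have := c.syl.card_eq_card h3
    rw [← e, c.card_T, ← hT] at this
    have : 0 < Nat.card T := Nat.card_pos
    omega
  obtain ⟨r, hr1, hr3⟩ := SetLike.exists_of_lt (pg_lt_inf_normalizer h1.isPGroup hlt)
  obtain ⟨hr1, hr2⟩ := mem_inf.1 hr1
  have hrr : r * r ∈ T := mul_mem_of_relIndex (S := S') (by
    have := relIndex_mul_card h2
    rw [← c.syl.card_eq_card h3, c.card_T] at this
    rw [Nat.eq_of_mul_eq_mul_right Nat.card_pos this]) hr1 hr1 Iff.rfl
  have hrV : r ∈ N[GW.four z u] := c.oz_T ▸ n_le_oz _ hr2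
  have hru := conj_eq_of_c1 (h1.le hr1)
  have hrz : r * z * r⁻¹ = z * u := by
    rcases c.four.conj_mem hrV (left_mem_four z u) c.four.t_ne with e | e | e
    · exfalso
      obtain ⟨k, hk, e'⟩ := c.syl.exists_conj h3
      have h4 : T ⊔ zpowers r ≤ S' ⊓ C1[z] :=
        sup_le (le_inf h2 (inf_le_left.trans c.le)) (zpowers_le.2 ⟨hr1, mem_c1_of_conj e⟩)
      have h5 : T ⊔ zpowers r = S' := eq_of_le_of_card_ge (h4.trans inf_le_left) (by
        rw [card_sup2 hrr hr2 hr3, ← c.syl.card_eq_card h3, c.card_T])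
      have h6 : ∀ a ∈ oz S', a ∈ zpowers (k * z * k⁻¹) := fun a ha => by
        rw [← conj_zpowers, mem_map_conj]
        refine c.cen ⟨mem_map_conj.1 (e' ▸ ha.1), mem_map_conj.1 ?_, by
          simpa using conj_sq (g := k⁻¹) ha.2.2⟩
        rw [conj_centralizer, e']; exact ha.2.1
      have h7 := h6 z ⟨h2 ⟨c.zS, c.four.t_mem⟩, le_c1_iff.1 (h5 ▸ h4.trans inf_le_right), c.zz⟩
      have h8 := h6 u ⟨h2 ⟨c.st.aS, self_mem_c1 u⟩, le_c1_iff.1 h1.le, c.st.sq⟩
      rw [mem_zpowers_two (conj_sq c.zz)] at h7 h8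
      exact c.four.ne ((h8.resolve_left c.four.v_ne).trans (h7.resolve_left c.four.t_ne).symm)
    · exact absurd (mul_left_cancel (mul_right_cancel (e.trans hru.symm))) c.four.ne.symm
    · exact e
  have hsz := conj_eq_of_c1 (c.le hs)
  have hsu' := c.conj_u hs hsu
  have g1 : s * r * z * (s * r)⁻¹ = u := by
    calc _ = s * (r * z * r⁻¹) * s⁻¹ := by group
      _ = s * z * s⁻¹ * (s * u * s⁻¹) := by rw [hrz]; group
      _ = u := by rw [hsz, hsu', ← mul_assoc, c.zz, one_mul]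
  have g2 : s * r * u * (s * r)⁻¹ = z * u := by
    calc _ = s * (r * u * r⁻¹) * s⁻¹ := by group
      _ = _ := by rw [hru, hsu']
  set g := s * r with hg
  have g3 := c.four.rot_w g1 g2
  have hg3 : g ^ 3 ∈ C1[z] ⊓ C1[u] := ⟨mem_c1_of_conj (by
    calc _ = g * (g * (g * z * g⁻¹) * g⁻¹) * g⁻¹ := by rw [pow_three']; group
      _ = z := by rw [g1, g2, g3]), mem_c1_of_conj (by
    calc _ = g * (g * (g * u * g⁻¹) * g⁻¹) * g⁻¹ := by rw [pow_three']; group
      _ = u := by rw [g2, g3, g1])⟩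
  obtain ⟨w, v, hw, hv, e, pw, pv⟩ := exists_piPart {3} g
  have cube : ∀ x ∈ zpowers g, x ^ 3 ∈ C1[z] ⊓ C1[u] := fun x hx => by
    obtain ⟨k, rfl⟩ := mem_zpowers_iff.1 hx
    rw [← zpow_natCast, ← zpow_mul, mul_comm, zpow_mul, zpow_natCast]
    exact zpow_mem hg3 k
  have hv' : v ∈ C1[z] ⊓ C1[u] := zpowers_le.2 (cube v hv) (mem_zpowers_pow_iff.2
    ((PiNat.compl_singleton_iff_coprime Nat.prime_three).1 pv).symm)
  have w1 : w * z * w⁻¹ = u := by
    rw [← g1, ← e]; conv_lhs => rw [← conj_eq_of_c1 hv'.1]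
    group
  have w2 : w * u * w⁻¹ = z * u := by
    rw [← g2, ← e]; conv_lhs => rw [← conj_eq_of_c1 hv'.2]
    group
  have hw3 : orderOf w = 3 := ord3 (by rintro rfl; exact c.four.ne (by simpa using w1.symm))
    ((isPiSubgroup_compl_singleton_iff.2 (h.four_not_dvd c.four le_rfl)).eq_one (cube w hw)
      (by rw [compl_compl]; exact pw.of_dvd (orderOf_pow_dvd 3)))
  have hsT := c.nT hs
  have hgT : g ∈ N[T] := mul_mem hsT hr2
  have hwT := zpowers_le.2 hgT hw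
  have tw : s * w * s⁻¹ * w ∈ T := by
    obtain ⟨k, rfl⟩ := mem_powers_iff_mem_zpowers.2 hw
    have h0 : s * g * s⁻¹ * g ∈ T := by
      have := mul_mem (c.mul_mem_T hs hsu hs hsu) hrr
      rwa [show s * s * (r * r) = s * g * s⁻¹ * g by rw [hg]; group] at this
    clear w1 w2 hw3 hwT pw e hw
    induction k with
    | zero => simp
    | succ k ih =>
      have := mul_mem (conj_mem_of_mem_normalizer (mul_mem (mul_mem hsT hgT) (inv_mem hsT)) ih) h0
      convert this using 1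
      simp only [pow_succ]; group
  refine ⟨w, ⟨hw3, c.syl.isPGroup, inf_le_left, hwT, fun t ht => ?_⟩, c.four, hw3, w1, w2⟩
  by_cases e : t ∈ C1[u]
  · left
    have := mul_mem (show t ∈ T from ⟨ht, e⟩) (conj_mem_of_mem_normalizer hwT (inv_mem ⟨ht, e⟩))
    rwa [← mul_assoc, ← mul_assoc] at this
  · right
    have h4 : t * s⁻¹ ∈ T := c.mul_mem_T ht e (inv_mem hs) (by rwa [inv_mem_iff])
    have := mul_mem (mul_mem h4 tw) (conj_mem_of_mem_normalizer' hwT (inv_mem h4))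
    rwa [show t * s⁻¹ * (s * w * s⁻¹ * w) * (w⁻¹ * (t * s⁻¹)⁻¹ * w) = t * w * t⁻¹ * w by group] at this

end S2

end Cfsg.Lib.Six
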