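import Cfsg.Agent.Lib.Six.Alpha

/-!
# Case B with cyclic centre: Sylow 2-subgroups of order 64
-/

set_option autoImplicit false

namespace Cfsg.Lib.Six
open Subgroup Cfsg Cfsg.Lib Cfsg.Lib.FT Cfsg.Lib.GW
open scoped commutatorElement

variable {G : Type*} [Group G] [Finite G]

theorem Hyp.cube (h : Hyp G) {z g : G} (hz : orderOf z = 2) (hg : g ∈ C1[z]) (h3 : 3 ∣ orderOf g) :
    g ^ 3 ∈ zpowers z := by
  obtain ⟨w, h1, hw⟩ := sm_exists_mem_orderOf_eq Nat.prime_three (zpowers g) (by rwa [Nat.card_zpowers])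
  have k : ∀ x ∈ zpowers w, x ^ 3 = 1 := fun x hx => by
    rw [← card3 hw]; exact congrArg Subtype.val (pow_card_eq_one' (x := (⟨x, hx⟩ : zpowers w)))
  rcases h.six z w g hz hw (zpowers_le.2 hg h1) hg (mem_c1_symm (zpowers_le.2 (self_mem_c1 g) h1))
    with e | e
  · rw [k g e]; exact one_mem _
  · have c : Commute z g := (mem_c1.1 hg).symm
    have := k _ e
    rw [c.mul_pow] at this
    rw [eq_inv_of_mul_eq_one_right this]
    exact inv_mem (pow_mem (mem_zpowers z) 3)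

omit [Finite G] in
theorem cube_mul {y : G} (hy : orderOf y = 3) (q : G) :
    (q * y) ^ 3 = q * (y * q * y⁻¹) * (y * (y * q * y⁻¹) * y⁻¹) := by
  rw [← mul_one (q * (y * q * y⁻¹) * _), ← cube3 hy, pow_three', pow_three']; group

theorem three_dvd_mul {y q : G} (hy : orderOf y = 3) {K : Subgroup G} (hK : ¬ 3 ∣ Nat.card K)
    (hn : y ∈ N[K]) (hq : q ∈ K) : 3 ∣ orderOf (q * y) := by
  by_contra h3
  have m1 := conj_mem_of_mem_normalizer hn hq
  have h1 : zpowers ((q * y) ^ 3) ≤ K :=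
    zpowers_le.2 (cube_mul hy q ▸ mul_mem (mul_mem hq m1) (conj_mem_of_mem_normalizer hn m1))
  have h2 := h1 (mem_zpowers_pow_iff.2 (Nat.prime_three.coprime_iff_not_dvd.2 h3))
  exact hK (hy ▸ Subgroup.orderOf_dvd_natCard _ (by simpa using mul_mem (inv_mem hq) h2))

theorem Hyp.norm3 (h : Hyp G) {z y q : G} (hz : orderOf z = 2) (hy : orderOf y = 3) (yz : y ∈ C1[z])
    {K : Subgroup G} (hK : ¬ 3 ∣ Nat.card K) (hle : K ≤ C1[z]) (hn : y ∈ N[K]) (hq : q ∈ K) :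
    q * (y * q * y⁻¹) * (y * (y * q * y⁻¹) * y⁻¹) ∈ zpowers z :=
  cube_mul hy q ▸ h.cube hz (mul_mem (hle hq) yz) (three_dvd_mul hy hK hn hq)

theorem Hyp.comm3 (h : Hyp G) {z y q : G} (hz : orderOf z = 2) (hy : orderOf y = 3) (yz : y ∈ C1[z])
    {K : Subgroup G} (hK : ¬ 3 ∣ Nat.card K) (hle : K ≤ C1[z]) (hn : y ∈ N[K]) (hq : q ∈ K) :
    ⁅q, y * q * y⁻¹⁆ ∈ zpowers z := by
  have h1 := h.norm3 hz hy yz hK hle hn hq
  have h2 := conj_mem_of_mem_normalizer (c1_le_nz z (hle (mul_mem (conj_mem_of_mem_normalizer hn hq) hq)))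
    (h.norm3 hz hy yz hK hle hn (inv_mem hq))
  convert mul_mem h1 h2 using 1
  rw [commutatorElement_def]; group

namespace CB
variable {z y b : G} {Q : Subgroup G} (c : CB z y b Q ⊥)
variable (h : Hyp G) (hZ : oz (Q ⊔ zpowers b) ≤ zpowers z) {u : G} (hu : u ∈ Q)
  (st : St (Q ⊔ zpowers b) (zpowers z) u)
include c h hZ hu st

omit h hZ st in
theorem UQ : four z u ⊔ zpowers (y * u * y⁻¹) ≤ Q := sup_le (four_le_iff.2 ⟨c.zQ, hu⟩)
  (zpowers_le.2 (conj_mem_of_mem_normalizer (c.nQ c.yz) hu))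

theorem cardU : Nat.card ↥(four z u ⊔ zpowers (y * u * y⁻¹)) = 8 := by
  rw [(c.st1 h hu st).1.card, (c.s2 h hZ st).four.card]

theorem qq : ∀ q ∈ Q, ∀ r ∈ Q, ⁅q, r⁆ ∈ zpowers z := by
  obtain ⟨-, h32⟩ := c.alpha h hZ hu st
  have h8 := c.cardU h hZ hu st
  have hUQ := c.UQ hu
  have hn := c.nU h hu st
  have nz := c.Qle.trans (c1_le_nz z)
  have co : ∀ q ∈ Q, ⁅u, q⁆ ∈ zpowers z := fun q hq => st.co q (mem_sup_left hq)
  have hUD : four z u ⊔ zpowers (y * u * y⁻¹) ≤ commInto (zpowers z) Q := sup_le (four_le_iff.2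
    ⟨⟨nz c.zQ, fun q hq => comm_self (mem_zpowers z) (nz hq)⟩, ⟨nz hu, co⟩⟩) (zpowers_le.2
    ⟨nz (hUQ (mem_sup_right (mem_zpowers _))), comm_conj (c.nQ c.yz) (c1_le_nz z c.yz) co⟩)
  set U := four z u ⊔ zpowers (y * u * y⁻¹)
  have hzU : z ∈ U := mem_sup_left (left_mem_four z u)
  obtain ⟨q, h1, h2, h3, -⟩ := pg_exists_fixed_mod c.Q2 c.Q2 le_normalizer
    (lt_of_le_of_ne hUQ fun e => by rw [e] at h8; omega) (c.Qle.trans hn) (c.Qle.trans hn)
  rw [pow_two] at h3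
  have h16 := card_sup2 h3 (hn (c.Qle h1)) h2
  have h4 : y * q * y⁻¹ ∉ U ⊔ zpowers q := fun e => by
    have := c.mod h (c.Q2.to_le (sup_le hUQ (zpowers_le.2 h1))) (mem_sup_left hzU)
      (n_sup h3 (hn (c.Qle h1)) (hn c.yz) e)
    omega
  have m1 := conj_mem_of_mem_normalizer (c.nQ c.yz) h1
  have h5 : U ⊔ zpowers q < Q ⊓ commInto (zpowers z) {q} := lt_of_le_not_ge (le_inf
    (sup_le hUQ (zpowers_le.2 h1)) (sup_le (fun x hx => ⟨(hUD hx).1, fun r hr => by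
      rw [hr]; exact (hUD hx).2 q h1⟩)
      (zpowers_le.2 ⟨nz h1, fun r hr => by rw [hr]; simp⟩))) fun e => h4 (e ⟨m1, nz m1, fun r hr => by
        rw [hr]; exact comm_symm (h.comm3 c.hz c.hy c.yz (not3_of_two c.Q2) c.Qle (c.nQ c.yz) h1)⟩)
  have h6 := eq_of_le_of_card_ge (inf_le_left : Q ⊓ commInto (zpowers z) {q} ≤ Q) (by
    have := pg_mul_card_le_of_lt c.Q2.to_inf_left h5
    omega)
  have h7 : U < Q ⊓ commInto (zpowers z) Q := lt_of_le_not_ge (le_inf hUQ hUD) fun e =>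
    h2 (e ⟨h1, nz h1, fun r hr => comm_symm ((h6.ge hr).2.2 q rfl)⟩)
  have h9 := c.mod h c.Q2.to_inf_left (h7.le hzU) (pg_mem_normalizer_of_conj_mem fun x hx =>
    have := conj_mem_of_mem_normalizer (c.nQ c.yz) hx.1
    ⟨this, nz this, comm_conj (c.nQ c.yz) (c1_le_nz z c.yz) hx.2.2⟩)
  have h10 := eq_of_le_of_card_ge (inf_le_left : Q ⊓ commInto (zpowers z) Q ≤ Q) (by
    have h11 := pg_mul_card_le_of_lt c.Q2.to_inf_left h7
    obtain ⟨k, hk⟩ := card_dvd_of_le (inf_le_left : Q ⊓ commInto (zpowers z) Q ≤ Q)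
    have : k ≤ 2 := by nlinarith
    interval_cases k <;> omega)
  exact fun q hq => (h10.ge hq).2.2

theorem ex_inv : ∃ a ∈ Q, a ∉ four z u ⊔ zpowers (y * u * y⁻¹) ∧ a * a = 1 := by
  obtain ⟨hC, h32⟩ := c.alpha h hZ hu st
  have h8 := c.cardU h hZ hu st
  have hUQ := c.UQ hu
  have hel := (c.st1 h hu st).1.el'
  obtain ⟨q, h1, h2⟩ := SetLike.exists_of_lt (lt_of_le_of_ne hUQ fun e => by rw [e] at h8; omega)
  have h3 : q * q ∈ C[Q] := mem_centralizer_iff.2 fun r hr => by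
    rcases comm_cases c.zz (c.qq h hZ hu st r hr q h1) with e | e
    · rw [← mul_assoc, e, mul_assoc, e, mul_assoc]
    · rw [← mul_assoc, e, mul_assoc, mul_assoc, e, ← mul_assoc q, mem_c1.1 (c.Qle h1), mul_assoc z,
        ← mul_assoc z, c.zz, one_mul, mul_assoc]
  rcases (mem_zpowers_two c.zz).1 (c.ozQ h hZ ⟨mul_mem h1 h1, h3,
    hel _ (hC.le (centralizer_mono hUQ h3))⟩) with e | e
  · exact ⟨q, h1, h2, e⟩
  obtain ⟨x, h4, h5⟩ : ∃ x ∈ four z u ⊔ zpowers (y * u * y⁻¹), x * q ≠ q * x := by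
    by_contra e
    push Not at e
    exact h2 (hC.le (mem_centralizer_iff.2 e))
  refine ⟨q * x, mul_mem h1 (hUQ h4), fun e => h2 (by simpa using mul_mem e (inv_mem h4)), ?_⟩
  rw [mul_assoc, ← mul_assoc x, (comm_cases c.zz (c.qq h hZ hu st x (hUQ h4) q h1)).resolve_left h5,
    mul_assoc, mul_assoc, hel x h4, mul_one, ← mem_c1.1 (c.Qle h1), ← mul_assoc, e, c.zz]

theorem ex_g {a : G} (ha : a ∈ Q) (hU : a ∉ four z u ⊔ zpowers (y * u * y⁻¹)) (aa : a * a = 1) :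
    ¬ C1[z] ⊓ C1[a] ≤ Q := fun hR => by
  obtain ⟨hC, h32⟩ := c.alpha h hZ hu st
  have h8 := c.cardU h hZ hu st
  have hUQ := c.UQ hu
  have hel := (c.st1 h hu st).1.el'
  have qq := c.qq h hZ hu st
  set U := four z u ⊔ zpowers (y * u * y⁻¹)
  have hzU : z ∈ U := mem_sup_left (left_mem_four z u)
  have ho : orderOf a = 2 := ord2 (fun e => hU (e ▸ one_mem _)) aa
  obtain ⟨r1, h1, r2, h2, e⟩ : ∃ r1 ∈ C1[z] ⊓ C1[a], ∃ r2 ∈ C1[z] ⊓ C1[a], r1 * r2 ≠ r2 * r1 := by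
    by_contra e
    push Not at e
    obtain ⟨v, h1, h2⟩ : ∃ v ∈ U ⊓ C1[a], v ∉ zpowers z := by
      by_contra e
      push Not at e
      have h3 := card2 c.hz ▸ card_le_of_le (show U ⊓ C1[a] ≤ zpowers z from e)
      have h4 := GW.relIndex_mul_card_inf C1[a] U
      rcases relIndex_c1_dvd (X := U) c.zz fun r hr => qq a ha r (hUQ hr) with e | e <;>
        rw [e] at h4 <;> omega
    have h3 : Q ⊓ C1[a] ≤ Q ⊓ C1[v] := fun x hx =>
      ⟨hx.1, mem_c1.2 (e x ⟨c.Qle hx.1, hx.2⟩ v ⟨c.Qle (hUQ h1.1), h1.2⟩)⟩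
    have h4 : Q ⊓ C1[v] < Q := lt_of_le_not_ge inf_le_left fun e =>
      h2 (c.ozQ h hZ ⟨hUQ h1.1, le_c1_iff.1 (e.trans inf_le_right), hel v h1.1⟩)
    have h5 := eq_of_le_of_card_ge h3 (by
      have h5 := pg_mul_card_le_of_lt c.Q2 h4
      have h6 := GW.relIndex_mul_card_inf C1[a] Q
      rcases relIndex_c1_dvd c.zz (qq a ha) with e | e <;> rw [e] at h6 <;> omega)
    exact hU (hC.le (le_c1_iff.1 fun x hx =>
      (h5.ge ⟨hUQ hx, mem_c1.2 (hel.comm hx h1.1)⟩).2))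
  have h3 : ⁅r1, r2⁆ = z := ((mem_zpowers_two c.zz).1 (qq _ (hR h1) _ (hR h2))).resolve_left
    fun e' => e (commutatorElement_eq_one_iff_mul_comm.1 e')
  obtain ⟨S', h4, h5⟩ := exists_isSylowIn_ge (c.Q2.to_le hR) inf_le_right
  obtain ⟨n, h6, h7⟩ := SetLike.exists_of_lt (pg_lt_inf_normalizer h4.isPGroup
    (lt_of_le_of_ne h5 fun e => by
      have h6 := (c.syl h).card_eq_card (h.oc.isSylowIn_top ho h4)
      have h7 := card_le_of_le hR
      rw [c.cardS, ← e] at h6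
      omega))
  refine h7 ⟨mem_c1_of_conj ?_, h4.le h6.1⟩
  have := qq _ (hR (conj_mem_of_mem_normalizer h6.2 h1)) _ (hR (conj_mem_of_mem_normalizer h6.2 h2))
  rw [← conjugate_commutatorElement, h3, mem_zpowers_two c.zz] at this
  exact this.resolve_left (conj_ne_one (ne_one2 c.hz))

theorem ex_u2 : ∃ v ∈ Q, v ∉ four z u ⊔ zpowers (y * u * y⁻¹) ∧
    St (Q ⊔ zpowers b) (zpowers z) v ∧ v ∈ C1[u] := by
  obtain ⟨a, ha, hU, aa⟩ := c.ex_inv h hZ hu st
  obtain ⟨g, hg, hgQ⟩ := SetLike.not_le_iff_exists.1 (c.ex_g h hZ hu st ha hU aa)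
  have hzU : z ∈ four z u ⊔ zpowers (y * u * y⁻¹) := mem_sup_left (left_mem_four z u)
  have hf : Four z a := ⟨c.hz, ord2 (fun e => hU (e ▸ one_mem _)) aa, fun e => hU (e ▸ hzU),
    mem_c1.1 (c.Qle ha)⟩
  obtain ⟨k, hk, e⟩ := c.syl0.exists_conj_le (c.two_of h c.hz (zpowers_le.2 hg.1)
    (h.four_not_dvd hf (zpowers_le.2 hg))) (zpowers_le.2 hg.1)
  have hs := e (conj_mem_conj (mem_zpowers g) k)
  have hsQ : k * g * k⁻¹ ∉ Q := fun e => hgQ (by
    simpa [mul_assoc] using conj_mem_of_mem_normalizer' (c.nQ hk) e)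
  have hv := conj_mem_of_mem_normalizer (c.nQ hk) ha
  have hvU : k * a * k⁻¹ ∉ four z u ⊔ zpowers (y * u * y⁻¹) := fun e => hU (by
    simpa [mul_assoc] using conj_mem_of_mem_normalizer' (c.nU h hu st hk) e)
  have hsv : k * g * k⁻¹ ∈ C1[k * a * k⁻¹] := c1_conj k a ▸ conj_mem_conj hg.2 k
  have vv := conj_sq (g := k) aa
  generalize k * g * k⁻¹ = s at *
  generalize k * a * k⁻¹ = v at *
  have qq := c.qq h hZ hu st v hv
  have zv := zpowers_le.2 (mem_c1_symm (c.Qle hv))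
  refine ⟨v, hv, hvU, ⟨st.el, st.nS, mem_sup_left hv, fun e => hvU (zpowers_le.2 hzU e), vv,
    C_zpowers z ▸ c.Qle hv, fun t ht => ?_⟩, ?_⟩
  · by_cases e : t ∈ Q
    · exact qq t e
    · have := qq _ (mul_mem_of_relIndex c.relS.dvd ht hs (iff_of_false e hsQ))
      rwa [commutatorElement_def, mul_inv_rev, show v * (t * s) * v⁻¹ * (s⁻¹ * t⁻¹) =
        v * t * (s * v * s⁻¹)⁻¹ * t⁻¹ by group, conj_eq_of_c1 hsv] at this
  · have h1 := c.tri.conj2 st.nS (c1_le_nz z c.yz) st.co hs (c.tw ((c.memS.1 hs).resolve_left hsQ))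
    have h2 := (c.st1 h hu st).2.2
    have m1 := conj_mem_of_mem_normalizer (c.nQ c.yz) hu
    generalize y * (y * u * y⁻¹) * y⁻¹ = e2 at *
    generalize y * u * y⁻¹ = e1 at *
    have h3 : e1 * (s * e1 * s⁻¹) ∈ C1[v] := by
      rcases comm_cases c.zz (qq e1 m1) with e | e
      · exact mul_mem (mem_c1.2 e.symm) (mul_mem (mul_mem hsv (mem_c1.2 e.symm)) (inv_mem hsv))
      · refine comm_zz c.zz (c.Qle m1) e ?_
        calc _ = s * v * s⁻¹ * (s * e1 * s⁻¹) := by rw [conj_eq_of_c1 hsv]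
          _ = s * (v * e1) * s⁻¹ := by group
          _ = s * z * s⁻¹ * (s * e1 * s⁻¹ * (s * v * s⁻¹)) := by rw [e]; group
          _ = _ := by rw [conj_eq_of_c1 hsv, conj_eq_of_c1 (c.leS hs)]
    have := mul_mem (mul_mem (zv h2) (zv (conj_mem_of_mem_normalizer' (c1_le_nz z (c.Qle
      (conj_mem_of_mem_normalizer (c.nQ (c.leS hs)) m1))) h1))) (inv_mem h3)
    refine mem_c1_symm ?_
    convert this using 1
    group

theorem nF {w : G} (t' : Tri (Q ⊔ zpowers b) ((Q ⊔ zpowers b) ⊓ C1[u]) w) {F : Subgroup G}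
    (hF : F ≤ (Q ⊔ zpowers b) ⊓ C1[u]) (h16 : Nat.card F = 16) (hc : IsMulCommutative F) :
    w ∈ N[F] := by
  obtain ⟨hC, h32⟩ := c.alpha h hZ hu st
  have c2 := c.s2 h hZ st
  have s1 := (c.st1 h hu st).1
  have h1 := c2.card_T
  rw [c.cardS, h32] at h1
  have hF' := map_conj_le_of_mem_normalizer hF t'.nR
  have k : ∀ {X}, X ≤ (Q ⊔ zpowers b) ⊓ C1[u] → Nat.card X = 16 →
      X.relIndex ((Q ⊔ zpowers b) ⊓ C1[u]) = 2 := fun {X} h2 h3 => by
    have := relIndex_mul_card h2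
    rw [h3] at this
    omega
  by_contra e
  obtain ⟨h2, h3⟩ := two_abelian Nat.prime_two hF hF' (k hF h16) (k hF' (by rwa [card_map_conj])) hc
    (isMulCommutative_iff_le_centralizer.2 (by
      rw [← conj_centralizer]; exact conj_le_conj_iff.2 (isMulCommutative_iff_le_centralizer.1 hc)))
    fun e' => e (conj_eq_iff_mem_normalizer.1 e'.symm)
  have h4 : F ⊓ w •ᶜ F ≤ four z u := c2.oz_T ▸ fun x hx => ⟨hF hx.1, h2 hx, s1.el' x (hC.le
    (centralizer_mono (sup_le (c2.oz_T ▸ oz_le _) (zpowers_le.2 (mem_inf.2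
      ⟨s1.aS, centralizer_le_singleton (right_mem_four z u) s1.ce⟩))) (h2 hx)))⟩
  have h5 := c2.four.card ▸ card_le_of_le h4
  omega

theorem caseII : False := by
  obtain ⟨-, h32⟩ := c.alpha h hZ hu st
  obtain ⟨v, hv, hvU, sv, vu⟩ := c.ex_u2 h hZ hu st
  have c1 := c.s2 h hZ st
  have c2 := c.s2 h hZ sv
  have hvV : v ∉ four z u := fun e => hvU (mem_sup_left e)
  have s3 : St (Q ⊔ zpowers b) (zpowers z) (u * v) := ⟨st.el, st.nS, mul_mem st.aS sv.aS,
    fun e => hvV (by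
      simpa using mul_mem (inv_mem (right_mem_four z u)) (zpowers_le.2 (left_mem_four z u) e)),
    by rw [mul_assoc, ← mul_assoc v, mem_c1.1 vu, mul_assoc, sv.sq, mul_one, st.sq],
    mul_mem st.ce sv.ce, fun s hs => comm_mul (st.nS st.aS) (st.co s hs) (sv.co s hs)⟩
  have c3 := c.s2 h hZ s3
  obtain ⟨w1, t1, r1⟩ := c1.exists_w h
  obtain ⟨w2, t2, r2⟩ := c2.exists_w h
  obtain ⟨w3, t3, r3⟩ := c3.exists_w h
  have h64 : Nat.card ↥(Q ⊔ zpowers b) = 64 := by rw [c.cardS, h32]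
  set S := Q ⊔ zpowers b with hS
  set F := S ⊓ C1[u] ⊓ C1[v] with hF
  have hT := c1.card_T
  have h16 : Nat.card F = 16 := by
    have h1 := GW.relIndex_mul_card_inf C1[v] (S ⊓ C1[u])
    rcases relIndex_c1_dvd (X := S ⊓ C1[u]) c.zz fun r hr => sv.co r hr.1 with e | e
    · exact absurd (c1.oz_T ▸ ⟨⟨sv.aS, vu⟩, le_c1_iff.1 (relIndex_eq_one.1 e), sv.sq⟩) hvV
    · rw [e, ← hF] at h1; omega
  have s0 : St S (four z u) v := ⟨fun x hx => c1.four.mul_self hx, c1.nV, sv.aS, hvV, sv.sq,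
    c_sup sv.ce vu, fun s hs => mem_sup_left (sv.co s hs)⟩
  have h8 := s0.card
  rw [c1.four.card] at h8
  have hF0c : F ≤ C[four z u ⊔ zpowers v] := fun x hx =>
    c_sup (c_sup (C_zpowers z ▸ c.leS hx.1.1) hx.1.2) hx.2
  have hF0 : four z u ⊔ zpowers v ≤ F := fun x hx =>
    ⟨⟨sup_le (four_le_iff.2 ⟨c1.zS, st.aS⟩) (zpowers_le.2 sv.aS) hx,
      mem_c1.2 (s0.el'.comm hx (mem_sup_left (right_mem_four z u)))⟩,
      mem_c1.2 (s0.el'.comm hx (mem_sup_right (mem_zpowers v)))⟩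
  have hzF : z ∈ F := hF0 (mem_sup_left (left_mem_four z u))
  have hc : IsMulCommutative F := sm_comm_of_card_center (p := 2) hF0 (le_centralizer_symm hF0c) (by
    have := relIndex_mul_card hF0
    rw [h8, h16] at this
    exact (show _ = 2 by omega).dvd)
  have n1 : w1 ∈ N[F] := c.nF h hZ hu st t1 inf_le_left h16 hc
  have n2 : w2 ∈ N[F] :=
    c.nF h hZ hv sv t2 (le_inf (inf_le_left.trans inf_le_left) inf_le_right) h16 hc
  have n3 : w3 ∈ N[F] := c.nF h hZ (mul_mem hu hv) s3 t3 (F := F) (fun x hx => ⟨hx.1.1, mem_c1_symm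
    (mul_mem (mem_c1_symm hx.1.2) (mem_c1_symm hx.2))⟩) h16 hc
  have hF2 : IsPGroup 2 F := c1.syl.isPGroup.to_inf_left.to_inf_left
  have nS : S ≤ N[F] := by
    rw [hF, show S ⊓ C1[u] ⊓ C1[v] = S ⊓ C1[u] ⊓ (S ⊓ C1[v]) by rw [← inf_inf_distrib_left, inf_assoc]]
    exact le_normalizer_inf c1.nT c2.nT
  have hM : N[F] ⊓ C1[z] = S := by
    refine (eq_of_relIndex_prime (A := S) (P := C1[z]) ?_ (le_inf nS c.leS) inf_le_right).resolve_right
      fun e => ?_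
    · have := relIndex_mul_card c.leS
      rw [c.card, card_bot, h32, ← hS, h64] at this
      rw [show S.relIndex C1[z] = 3 by omega]; exact Nat.prime_three
    · have := c.mod h hF2 hzF (e.ge c.yz).1
      omega
  have hX := ncard_conj_mul' N[F] z
  rw [hM, h64] at hX
  set X := {x | ∃ g ∈ N[F], g * z * g⁻¹ = x} with hXd
  have k : ∀ {g x}, g ∈ N[F] → x ∈ X → g * x * g⁻¹ ∈ X :=
    fun {g x} hg ⟨g', h1, h2⟩ => ⟨g * g', mul_mem hg h1, by rw [← h2]; group⟩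
  have p0 : z ∈ X := ⟨1, one_mem _, by simp⟩
  have hX1 : X.ncard ≤ 15 := by
    have := Set.ncard_le_ncard (s := X) (t := (F : Set G) \ {1}) (by
      rintro _ ⟨g, hg, rfl⟩
      exact ⟨conj_mem_of_mem_normalizer hg hzF, conj_ne_one c1.four.t_ne⟩) (Set.toFinite _)
    rwa [Set.ncard_diff_singleton_of_mem (one_mem F), show (F : Set G).ncard = 16 from h16] at this
  have hX2 : 11 ≤ X.ncard := by
    have h1 : ∀ x ∈ four z u ⊔ zpowers v, x ∈ insert 1 X := fun x hx => by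
      rcases s0.mem.1 hx with e | e
      · rcases c1.four.mem_four.1 e with rfl | rfl | rfl | rfl
        exacts [Or.inl rfl, Or.inr p0, Or.inr (r1.h1 ▸ k n1 p0), Or.inr (r1.h2 ▸ k n1 (r1.h1 ▸ k n1 p0))]
      · right
        rw [show x = x * v * v by rw [mul_assoc, sv.sq, mul_one]]
        rcases c1.four.mem_four.1 e with e | e | e | e <;> rw [e]
        · rw [one_mul]; exact r2.h1 ▸ k n2 p0
        · exact r2.h2 ▸ k n2 (r2.h1 ▸ k n2 p0)
        · exact r3.h1 ▸ k n3 p0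
        · rw [mul_assoc]; exact r3.h2 ▸ k n3 (r3.h1 ▸ k n3 p0)
    set F0 := four z u ⊔ zpowers v
    have h2 := Set.ncard_le_ncard (s := (F0 : Set G) ∪ (w1 •ᶜ F0 : Subgroup G)) (t := insert 1 X) (by
      rintro x (hx | ⟨x, hx, rfl⟩)
      · exact h1 x hx
      · rcases h1 x hx with rfl | e
        exacts [Or.inl (map_one _), Or.inr (k n1 e)]) (Set.toFinite _)
    have h3 := Set.ncard_union_add_ncard_inter (F0 : Set G) (w1 •ᶜ F0 : Subgroup G)
    have h4 := Set.ncard_insert_le 1 X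
    have h5 : F0 ⊓ w1 •ᶜ F0 < F0 := lt_of_le_not_ge inf_le_left fun e => by
      have h6 := conj_eq_iff_mem_normalizer.1 (eq_of_le_of_card_ge (e.trans inf_le_right)
        (card_map_conj F0 w1).le).symm
      rcases h.mod_cases t1.hw hF2 n1 with ⟨-, e1⟩ | ⟨e1, -⟩
      · have := card_mod3 t1.hw h6
        rw [eq_bot_iff.2 ((inf_le_inf_right _ hF0).trans e1.le), card_bot] at this
        omega
      · omega
    have h6 := pg_mul_card_le_of_lt (hF2.to_le hF0) h5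
    have h7 : ((w1 •ᶜ F0 : Subgroup G) : Set G).ncard = Nat.card F0 := card_map_conj F0 w1
    have h9 : (F0 : Set G).ncard = Nat.card F0 := rfl
    have h10 : ((F0 : Set G) ∩ (w1 •ᶜ F0 : Subgroup G)).ncard = Nat.card ↥(F0 ⊓ w1 •ᶜ F0) := rfl
    omega
  have h960 : Nat.card N[F] = 960 := by
    have h1 := (c1.syl.mono nS le_top).not_dvd_relIndex
    have h2 := relIndex_mul_card nS
    have h3 : 3 ∣ Nat.card N[F] := t1.hw ▸ Subgroup.orderOf_dvd_natCard _ n1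
    rw [h64] at h2
    omega
  have hP : IsSylowIn 3 (zpowers w1) N[F] := IsSylowIn.of_not_dvd_relIndex (zpowers_le.2 n1)
    (pgroup3 t1.hw) (by
      have := relIndex_mul_card (zpowers_le.2 n1)
      rw [card3 t1.hw] at this
      omega)
  have nm : ∀ {X : Subgroup G}, IsPGroup 2 X → w1 ∉ X := fun hX e =>
    not3_of_two hX (t1.hw ▸ Subgroup.orderOf_dvd_natCard _ e)
  have a1 := pg_card_zpowers_sup (p := 3) n1 (nm hF2) (cube3 t1.hw ▸ one_mem _)
  have a2 := pg_card_zpowers_sup (p := 3) t1.nR (nm (t1.two.to_le t1.le)) (cube3 t1.hw ▸ one_mem _)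
  have hSL : S ≤ N[zpowers w1 ⊔ F] := fun s hs => by
    have h1 : s * w1 * s⁻¹ ∈ zpowers w1 ⊔ S ⊓ C1[u] := by
      rcases t1.tw s hs with e | e
      · simpa using mul_mem (mem_sup_right e) (mem_sup_left (mem_zpowers w1))
      · simpa using mul_mem (mem_sup_right e) (inv_mem (mem_sup_left (mem_zpowers w1)))
    have h2 : s * w1 * s⁻¹ ∈ zpowers w1 ⊔ F := by
      have := mul_mem_of_relIndex (X := zpowers w1 ⊔ F) (by
        have := relIndex_mul_card (sup_le_sup_left (inf_le_left : F ≤ S ⊓ C1[u]) (zpowers w1))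
        rw [a1, a2, h16, show Nat.card ↥(S ⊓ C1[u]) = 32 by omega] at this
        exact (Nat.eq_of_mul_eq_mul_right (m := 3 * 16) (by norm_num) this).dvd) (inv_mem h1) (inv_mem h1) Iff.rfl
      rwa [inv_mul_inv3 ((sm_orderOf_conj _ _).trans t1.hw)] at this
    refine conj_eq_iff_mem_normalizer.1 (eq_of_le_of_card_ge ?_ (card_map_conj _ s).ge)
    rw [conj_sup, conj_zpowers, conj_eq_iff_mem_normalizer.2 (nS hs)]
    exact sup_le (zpowers_le.2 h2) le_sup_right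
  have hL : N[F] ≤ N[zpowers w1 ⊔ F] := by
    set L := N[F] ⊓ N[zpowers w1 ⊔ F]
    have h1 : N[F] ⊓ N[zpowers w1] ≤ L := le_inf inf_le_left
      (le_normalizer_sup inf_le_right inf_le_left)
    have hw : zpowers w1 ≤ L := (le_inf hP.le le_normalizer).trans h1
    have h2 := syl_mod hP
    have h3 := syl_mod (hP.mono hw inf_le_left)
    have h4 := relIndex_mul_relIndex _ _ _ h1 (inf_le_left : L ≤ N[F])
    rw [inf_relIndex_left N[F] N[zpowers w1], ← inf_relIndex_right _ L,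
      show N[F] ⊓ N[zpowers w1] ⊓ L = N[zpowers w1] ⊓ L by
      rw [inf_comm N[F], inf_assoc, inf_eq_right.2 (inf_le_left : L ≤ N[F])], inf_relIndex_right] at h4
    have h5 := relIndex_mul_card (inf_le_left : L ≤ N[F])
    have h6 : 64 ∣ Nat.card L := h64 ▸ card_dvd_of_le (le_inf nS hSL : S ≤ L)
    have h7 : 3 ∣ Nat.card L := card3 t1.hw ▸ card_dvd_of_le hw
    obtain ⟨m, hm⟩ : 192 ∣ Nat.card L := by omega
    rw [hm, h960] at h5
    rcases (Nat.dvd_prime Nat.prime_five).1 (⟨m, by nlinarith⟩ : L.relIndex N[F] ∣ 5) with e | e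
    · exact (relIndex_eq_one.1 e).trans inf_le_right
    · rw [e] at h4; omega
  obtain ⟨g, hg, e⟩ := hP.exists_conj_le (pgroup3 t2.hw) (zpowers_le.2 n2)
  have h1 := conj_mem_of_mem_normalizer' (hL hg) (mem_sup_left (e (conj_mem_conj (mem_zpowers w2) g)))
  rw [show g⁻¹ * (g * w2 * g⁻¹) * g = w2 by group] at h1
  exact hvV (r2.h1 ▸ conj_mem_of_mem_normalizer (sup_le (zpowers_le.2 r1.mem_norm)
    ((hF0c.trans (centralizer_mono le_sup_left)).trans (centralizer_le_normalizer _)) h1)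
    (left_mem_four z u))

end CB

end Cfsg.Lib.Six
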