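import Cfsg.Agent.Lib.Six.Setup

/-!
# The chain stops at the normal four-subgroup; case A
-/

set_option autoImplicit false

namespace Cfsg.Lib.Six
open Subgroup Cfsg Cfsg.Lib Cfsg.Lib.FT Cfsg.Lib.GW
open scoped commutatorElement

variable {G : Type*} [Group G]

theorem lam {R : Subgroup G} {w a c : G} (hn : w ∈ N[R]) (ha : a ∈ R) (hc : c ∈ C[R])
    (c1 : c ≠ 1) (cc : c * c = 1) (hw : w ∉ C1[c]) (h : ∀ r ∈ R, ⁅a, r⁆ ∈ zpowers c)
    (ht : a * (w * a * w⁻¹) * (w * (w * a * w⁻¹) * w⁻¹) ∈ C[R]) :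
    R ⊓ C1[a] ≤ C1[w * a * w⁻¹] := fun r hr => by
  have k : ∀ {a c : G}, (∀ r ∈ R, ⁅a, r⁆ ∈ zpowers c) →
      ∀ r ∈ R, ⁅w * a * w⁻¹, r⁆ ∈ zpowers (w * c * w⁻¹) := fun {a c} h r hr => by
    have := conj_mem_conj (h _ (conj_mem_of_mem_normalizer' hn hr)) w
    rwa [conj_zpowers, show w * ⁅a, w⁻¹ * r * w⁆ * w⁻¹ = ⁅w * a * w⁻¹, r⁆ by
      simp only [commutatorElement_def]; group] at this
  have h1 := comm_cases (conj_sq cc) (k h r hr.1)
  have h2 := comm_cases (conj_sq (conj_sq cc)) (k (k h) r hr.1)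
  have hc2 := conj_mem_of_mem_normalizer (normalizer_le_normalizer_centralizer R hn)
    (conj_mem_of_mem_normalizer (normalizer_le_normalizer_centralizer R hn) hc)
  have m1 := conj_mem_of_mem_normalizer hn ha
  have n1 : w * c * w⁻¹ ≠ 1 := conj_ne_one c1
  have n2 : w * c * w⁻¹ * (w * (w * c * w⁻¹) * w⁻¹) ≠ 1 := fun e => hw (mem_c1_of_conj (by
    have := eq_inv_of_mul_eq_one_right e
    rw [inv2 (conj_sq cc)] at this
    exact mul_left_cancel (mul_right_cancel this)))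
  have h3 := comm_c ht hr.1
  have h0 := mem_c1.1 hr.2
  generalize w * (w * a * w⁻¹) * w⁻¹ = a2 at *
  generalize w * a * w⁻¹ = a1 at *
  generalize w * (w * c * w⁻¹) * w⁻¹ = c2 at *
  generalize w * c * w⁻¹ = c1 at *
  have h4 : r * (a1 * a2) = a1 * a2 * r := by
    apply mul_left_cancel (a := a)
    calc _ = r * (a * a1 * a2) := by rw [← mul_assoc, ← h0]; group
      _ = _ := by rw [h3]; group
  refine mem_c1.2 (h1.resolve_right fun e1 => ?_).symm
  rcases h2 with e2 | e2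
  · refine n1 (mul_right_cancel (b := r * a1 * a2) ?_)
    rw [← mul_assoc, ← e1, mul_assoc, ← e2, ← mul_assoc, ← h4]; group
  · refine n2 (mul_right_cancel (b := r * a1 * a2) ?_)
    calc _ = c1 * (r * a1 * c2) * a2 := by rw [comm_c hc2 (mul_mem hr.1 m1)]; group
      _ = a1 * (r * c2) * a2 := by rw [← mul_assoc c1, ← e1]; group
      _ = a1 * a2 * r := by rw [comm_c hc2 hr.1, mul_assoc, mul_assoc c2, ← e2]; group
      _ = _ := by rw [← h4]; group

variable [Finite G]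

theorem reg {W A A0 : Subgroup G} (hW : El W) (hA : A ≤ N[W])
    (h2 : A0.relIndex A = 1 ∨ A0.relIndex A = 2) (h0 : A0 ≤ C[W]) :
    Nat.card W ≤ Nat.card ↥(W ⊓ C[A]) ^ 2 := by
  rcases h2 with h2 | h2
  · rw [inf_eq_left.2 (le_centralizer_symm ((relIndex_eq_one.1 h2).trans h0))]
    exact Nat.le_self_pow two_ne_zero _
  obtain ⟨t, ht, h3, h4⟩ := relIndex_eq_two_iff_exists_notMem_and.1 h2
  have e : W ⊓ C1[t] = W ⊓ C[A] := le_antisymm (fun x hx => ⟨hx.1, le_c1_iff.1 fun g hg => by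
    have k : A0 ≤ C1[x] := le_c1_iff.2 (le_centralizer_symm h0 hx.1)
    rcases h4 g hg with e | e
    · simpa using mul_mem (k e) (inv_mem (mem_c1_symm hx.2))
    · exact k e⟩) (inf_le_inf_left _ (centralizer_le_singleton ht))
  have h5 := relIndex_le_ncard (X := W) (a := t) (s := (· * t) '' (W ⊓ C1[t] : Subgroup G))
    (Set.toFinite _) fun g hg => by
      have h6 := conj_mem_of_mem_normalizer (hA ht) (inv_mem hg)
      refine ⟨g * (t * g⁻¹ * t⁻¹), ⟨mul_mem hg h6, mem_c1_symm (mem_c1_of_conj ?_)⟩, by group⟩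
      have h7 : t * t * g⁻¹ = g⁻¹ * (t * t) :=
        (comm_c (h0 ((h4 t ht).resolve_right h3)) (inv_mem hg)).symm
      calc _ = (t * g⁻¹ * t⁻¹)⁻¹ * (t * t * g⁻¹) * (t * t)⁻¹ := by group
        _ = (t * g⁻¹ * t⁻¹)⁻¹ * g⁻¹ := by rw [h7]; group
        _ = _ := by rw [inv2 (hW _ h6), inv2 (hW _ hg), hW.comm (inv2 (hW _ hg) ▸ h6) hg]
  rw [Set.ncard_image_of_injective _ (mul_left_injective t)] at h5
  rw [← e, pow_two]
  conv_lhs => rw [← relIndex_mul_card_inf C1[t] W, inf_comm]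
  exact Nat.mul_le_mul_right _ h5

theorem reg2 {W R A1 A0 : Subgroup G} {z : G} (hz : orderOf z = 2) (hW : El W) (hR : R ≤ N[W])
    (hle : A1 ≤ R) (hn : R ≤ N[A1]) (h1 : A1.relIndex R = 1 ∨ A1.relIndex R = 2)
    (h2 : A0.relIndex A1 = 1 ∨ A0.relIndex A1 = 2) (h0 : A0 ≤ C[W]) (hc : W ⊓ C[R] ≤ zpowers z) :
    Nat.card W ≤ 16 := by
  have h3 := reg hW (hle.trans hR) h2 h0
  have h4 := reg (hW.mono (inf_le_left (b := C[A1])))
    (le_normalizer_inf hR (le_normalizer_centralizer hn)) h1 (le_centralizer_symm inf_le_right)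
  have h5 := card2 hz ▸ card_le_of_le ((inf_le_inf_right C[R] (inf_le_left (b := C[A1]))).trans hc)
  exact h3.trans (Nat.pow_le_pow_left (h4.trans (Nat.pow_le_pow_left h5 2)) 2)

theorem relIndex_c1_dvd {X : Subgroup G} {a c : G} (cc : c * c = 1)
    (h : ∀ r ∈ X, ⁅a, r⁆ ∈ zpowers c) : C1[a].relIndex X = 1 ∨ C1[a].relIndex X = 2 := by
  have := relIndex_le_ncard (X := X) (a := a) (s := {a, c * a}) (Set.toFinite _) fun g hg => by
    rcases comm_cases cc (comm_symm (h g hg)) with e | e <;> rw [e]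
    · left; group
    · right; simp [mul_assoc]
  have h2 := Set.ncard_insert_le a {c * a}
  rw [Set.ncard_singleton] at h2
  have h3 : C1[a].relIndex X ≠ 0 := index_ne_zero_of_finite
  omega

omit [Finite G] in
theorem comm_comm_c1 {T : Subgroup G} {a t r : G} (ha : a ∈ T) (h : ∀ r ∈ T, ⁅a, r⁆ ∈ C[T])
    (ht : t ∈ T) (hr : r ∈ T) : ⁅t, r⁆ ∈ C1[a] := mem_c1_symm (mem_c1_of_conj (by
  have h1 := comm_c (h t ht) (mul_mem (mul_mem (mul_mem ht (comm_self ha (le_normalizer hr))) hr)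
    (inv_mem ht))
  have h2 := comm_c (h r hr) (mul_mem (mul_mem hr (inv_mem ht)) (inv_mem hr))
  calc _ = ⁅a, t⁆ * (t * ⁅a, r⁆ * r * t⁻¹) * ⁅a, t⁆⁻¹ * r⁻¹ * ⁅a, r⁆⁻¹ := by
        simp only [commutatorElement_def]; group
    _ = t * (⁅a, r⁆ * (r * t⁻¹ * r⁻¹)) * ⁅a, r⁆⁻¹ := by rw [← h1]; group
    _ = _ := by rw [← h2, commutatorElement_def t]; group))

omit [Finite G] in
theorem rot_fpf {w z u x : G} (r : Rot w z u) (hx : x ∈ four z u) (h : w * x * w⁻¹ = x) : x = 1 := by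
  rcases r.hf.mem_four.1 hx with e | rfl | rfl | rfl
  · exact e
  · exact absurd (r.h1.symm.trans h) r.hf.ne
  · exact absurd (r.h2.symm.trans h) r.hf.w_ne_v
  · exact absurd (r.h3.symm.trans h) r.hf.w_ne_t.symm

theorem n_inf_c1 {R : Subgroup G} {u z : G} (hR : R ≤ C1[z]) (h : ∀ s ∈ R, ⁅u, s⁆ ∈ zpowers z) :
    R ≤ N[R ⊓ C1[u]] := fun s hs => pg_mem_normalizer_of_conj_mem fun x hx => by
  refine mem_inf.2 ⟨mul_mem (mul_mem hs (mem_inf.1 hx).1) (inv_mem hs), ?_⟩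
  have h1 : s⁻¹ * u * s ∈ C1[x] := by
    simpa [commutatorElement_def] using mul_mem (zpowers_le.2 (mem_c1_symm (hR hx.1))
      (comm_symm (h _ (inv_mem hs)))) (mem_c1_symm hx.2)
  have := conj_mem_conj (mem_c1_symm h1) s
  rwa [← c1_conj, show s * (s⁻¹ * u * s) * s⁻¹ = u by group] at this

theorem S2.stop {S R : Subgroup G} {z u y w : G} (c : S2 S z u) (h : Hyp G) (t : Tri S R y)
    (yz : y ∈ C1[z]) (zR : z ∈ R) (uR : u ∈ R) (hn : S ≤ N[R]) (hZ : oz R ≤ zpowers z)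
    (hC : ∀ s ∈ S, s ∈ C1[y * u * y⁻¹] → s ∈ R) (t' : Tri S (S ⊓ C1[u]) w) (r : Rot w z u) :
    ∃ z', orderOf z' = 2 ∧ S ⊓ C1[u] ⊓ C1[w] = zpowers z' ∧
      ∀ t ∈ S ⊓ C1[u], ⁅z', t⁆ ∈ GW.four z u := by
  have hR := t.two.to_le t.le
  have fx := h.fix2' c.hz t.hw yz hR zR
  obtain ⟨s1, n1, -⟩ := step t c.st (c1_le_nz z yz) uR fun x h1 h2 _ _ => fx.le ⟨h1, h2⟩
  have co1 := comm_conj t.nR (c1_le_nz z yz) fun r hr => c.st.co r (t.le hr)
  change St S (GW.four z u) _ at s1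
  change y ∈ N[GW.four z u ⊔ _] at n1
  set a := y * u * y⁻¹
  set T := S ⊓ C1[u] with hT
  have hVT : GW.four z u ≤ C[T] := c.oz_T ▸ oz_le_c T
  have aT : a ∈ T := ⟨s1.aS, centralizer_le_singleton (right_mem_four z u) s1.ce⟩
  by_contra hno
  push Not at hno
  obtain ⟨s2, n2, ht⟩ := step t' s1 r.mem_norm aT fun x h1 h2 _ h3 => by
    rcases h.fix2 t'.hw (t.two.to_le t'.le) with e | ⟨z', h4, e⟩
    · rw [mem_bot.1 (e.le ⟨h1, h2⟩)]; exact one_mem _
    · rcases (mem_zpowers_two (mul_self2 h4)).1 (e.le ⟨h1, h2⟩) with rfl | rfl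
      · exact one_mem _
      · obtain ⟨t, h5, h6⟩ := hno x h4 e
        exact absurd (h3 t h5) h6
  set U := GW.four z u ⊔ zpowers a with hU
  have hzU : z ∈ U := mem_sup_left (left_mem_four z u)
  have huU : u ∈ U := mem_sup_left (right_mem_four z u)
  have haU : a ∈ U := mem_sup_right (mem_zpowers a)
  have hSU : S ⊓ C[U] ≤ R := fun s hs => hC s hs.1 (centralizer_le_singleton haU hs.2)
  by_cases hE : T ⊓ C1[w] ≤ C[U ⊔ zpowers (w * a * w⁻¹)]
  swap
  · obtain ⟨s3, n3, -⟩ := step t s2 n1 (hSU ⟨s2.aS, s2.ce⟩) fun x h1 h2 _ _ =>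
      zpowers_le.2 hzU (fx.le ⟨h1, h2⟩)
    refine chain _ t' t (fun s hs => ⟨⟨hs.1, centralizer_le_singleton (mem_sup_left huU) hs.2⟩,
      hSU ⟨hs.1, centralizer_mono le_sup_left hs.2⟩⟩) (fun x h1 h2 h3 => ?_)
      (fun x h1 h2 _ => zpowers_le.2 (mem_sup_left hzU) (fx.le ⟨h1, h2⟩)) le_rfl s3 n2 n3
    rcases h.fix2 t'.hw (t.two.to_le t'.le) with e | ⟨z', h4, e⟩
    · rw [mem_bot.1 (e.le ⟨h1, h2⟩)]; exact one_mem _
    · rcases (mem_zpowers_two (mul_self2 h4)).1 (e.le ⟨h1, h2⟩) with rfl | rfl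
      · exact one_mem _
      · exact absurd (e.le.trans (zpowers_le.2 h3)) hE
  have k0 : ∀ r ∈ T, ⁅a, r⁆ ∈ GW.four z u := fun r hr => s1.co r hr.1
  have k1 := comm_conj t'.nR r.mem_norm k0
  have k2 := comm_conj t'.nR r.mem_norm k1
  have m1 := conj_mem_of_mem_normalizer t'.nR aT
  have m2 := conj_mem_of_mem_normalizer t'.nR m1
  have hP : S ⊓ C[U] ≤ C1[w * a * w⁻¹] := fun p hp => by
    have pT : p ∈ T := ⟨hp.1, centralizer_le_singleton huU hp.2⟩
    obtain ⟨n, h1, d, h2, e⟩ := trace (B := T ⊓ C[U ⊔ zpowers (w * a * w⁻¹)]) t'.hw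
      (not3_of_two (t.two.to_le t'.le)) t'.nR
      (zpowers_le.1 (le_normalizer_inf (zpowers_le.2 t'.nR)
        (le_normalizer_centralizer (zpowers_le.2 n2))))
      (le_normalizer_inf le_normalizer (le_normalizer_centralizer (t'.le.trans s2.nS'))) pT
      fun r hr => ⟨comm_self pT (le_normalizer hr), c_sup (c_sup
        (le_centralizer_symm hVT (comm_self pT (le_normalizer hr)))
        (comm_comm_c1 aT (fun r hr => hVT (k0 r hr)) pT hr))
        (comm_comm_c1 m1 (fun r hr => hVT (k1 r hr)) pT hr)⟩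
    have h3 := centralizer_le_singleton (mem_sup_left haU) (e ▸ mul_mem (mem_inf.1 h1).2 (hE h2))
    have pa : p ∈ C1[a] := centralizer_le_singleton haU hp.2
    have x1 := comm_symm (k1 p pT)
    have x2 := comm_symm (k2 p pT)
    have h4 : ⁅p, w * a * w⁻¹⁆ * ⁅p, w * (w * a * w⁻¹) * w⁻¹⁆ = 1 := by
      have h5 := comm_c (hVT ht) pT
      have h6 := comm_c (hVT x2) m1
      have h7 := mem_c1.1 pa
      generalize w * (w * a * w⁻¹) * w⁻¹ = a2 at *
      generalize w * a * w⁻¹ = a1 at *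
      apply mul_right_cancel (b := a1 * a2)
      calc _ = ⁅p, a1⁆ * (⁅p, a2⁆ * a1) * a2 := by group
        _ = a⁻¹ * (a * p) * a1 * a2 * p⁻¹ := by rw [← h6]; simp only [commutatorElement_def]; group
        _ = a⁻¹ * (p * (a * a1 * a2)) * p⁻¹ := by rw [← h7]; group
        _ = _ := by rw [h5]; group
    have h5 := eq_inv_of_mul_eq_one_right h4
    rw [inv2 (r.hf.mul_self x1)] at h5
    refine mem_c1.2 (commutatorElement_eq_one_iff_mul_comm.1 (rot_fpf r x1 ?_))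
    have y1 := conj_mem_of_mem_normalizer r.mem_norm x1
    have y2 := conj_mem_of_mem_normalizer r.mem_norm y1
    have h6 := comm_c (hVT y2) (conj_mem_of_mem_normalizer t'.nR pT)
    have h7 : w * p * w⁻¹ * a * (w * p * w⁻¹)⁻¹ = w * ⁅p, w * a * w⁻¹⁆ * w⁻¹ * a := by
      rw [← h5]; conv_lhs => rw [← conj3 t'.hw a]
      conv_rhs => rw [← conj3 t'.hw a, conj3 t'.hw (w * (w * a * w⁻¹) * w⁻¹)]
      simp only [commutatorElement_def]; group
    have h8 : w * (w * p * w⁻¹) * w⁻¹ * a * (w * (w * p * w⁻¹) * w⁻¹)⁻¹ =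
        w * (w * ⁅p, w * a * w⁻¹⁆ * w⁻¹) * w⁻¹ * a := by
      conv_lhs => rw [← conj3 t'.hw a]
      conv_rhs => rw [← conj3 t'.hw a, conj3 t'.hw (w * a * w⁻¹)]
      simp only [commutatorElement_def]; group
    have h9 := conj_eq_of_c1 (show w * p * w⁻¹ * (w * (w * p * w⁻¹) * w⁻¹) ∈ C1[a] by
      simpa [mul_assoc] using mul_mem (inv_mem pa) h3)
    have h10 := r.hf.mul_self y1
    generalize ⁅p, w * a * w⁻¹⁆ = x at *
    have h11 : w * (w * x * w⁻¹) * w⁻¹ = w * x * w⁻¹ := by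
      generalize w * (w * x * w⁻¹) * w⁻¹ = x2 at *
      generalize w * x * w⁻¹ = x1 at *
      generalize w * (w * p * w⁻¹) * w⁻¹ = p2 at *
      generalize w * p * w⁻¹ = p1 at *
      apply mul_right_cancel (b := x1 * a)
      calc _ = p1 * x2 * a * p1⁻¹ := by rw [← h7, h6]; group
        _ = p1 * p2 * a * (p1 * p2)⁻¹ := by rw [mul_assoc p1, ← h8]; group
        _ = _ := by rw [h9, ← mul_assoc, h10, one_mul]
    exact mul_left_cancel (mul_right_cancel h11)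
  have hW : U ⊔ zpowers (w * a * w⁻¹) ≤ oz (S ⊓ C[U]) := fun x hx =>
    ⟨⟨sup_le (sup_le ((c.oz_T ▸ oz_le T).trans t'.le) (zpowers_le.2 s1.aS)) (zpowers_le.2 s2.aS) hx,
      centralizer_mono le_sup_left (s2.el'.le_c hx)⟩,
      le_centralizer_symm (A := S ⊓ C[U]) (fun p hp => c_sup hp.2 (hP hp)) hx, s2.el' x hx⟩
  have e1 : S ⊓ C[U] = R ⊓ C[U] := le_antisymm (le_inf hSU inf_le_right) (inf_le_inf_right _ t.le)
  have h16 := card_le_of_le hW
  rw [s2.card, s1.card, c.four.card] at h16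
  have hyP : y ∈ N[S ⊓ C[U]] := e1 ▸ zpowers_le.1 (le_normalizer_inf (zpowers_le.2 t.nR)
    (le_normalizer_centralizer (zpowers_le.2 n1)))
  have h17 := card_mod3 t.hw (n_le_oz _ hyP)
  rw [h.fix2' c.hz t.hw yz (el_oz _).pgroup (hW (mem_sup_left hzU)), card2 c.hz] at h17
  have h18 := reg2 (A0 := R ⊓ C1[u] ⊓ C1[a]) c.hz (el_oz (S ⊓ C[U])) (t.le.trans
    ((le_normalizer_inf le_normalizer (le_normalizer_centralizer s1.nS')).trans (n_le_oz _)))
    inf_le_left (n_inf_c1 (t.le.trans c.le) fun s hs => c.st.co s (t.le hs))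
    (by rw [inf_relIndex_left]; exact relIndex_c1_dvd c.zz fun s hs => c.st.co s (t.le hs))
    (by rw [inf_relIndex_left]; exact relIndex_c1_dvd c.zz fun s hs => co1 s hs.1)
    (le_centralizer_symm ((oz_le_c _).trans (centralizer_mono fun x hx => ⟨t.le hx.1.1,
      c_sup (c_sup (C_zpowers z ▸ c.le (t.le hx.1.1)) hx.1.2) hx.2⟩)))
    fun x hx => hZ ⟨hSU hx.1.1, hx.2, hx.1.2.2⟩
  omega

theorem CA.comm' [IsSimpleGroup G] (hG : ¬ IsMulCommutative G) {z y : G} {S : Subgroup G}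
    (c : CA z y S) (h : Hyp G) : IsMulCommutative S := by
  by_cases hZ : oz S ≤ zpowers z
  swap
  · obtain ⟨u, h1, h2⟩ := SetLike.not_le_iff_exists.1 hZ
    exact c.comm h h1 (fun e => h2 (e ▸ one_mem _)) fun e => h2 (e ▸ mem_zpowers _)
  exfalso
  have t : Tri S S y := ⟨c.hy, c.syl.isPGroup, le_rfl, c.norm, fun s hs => Or.inl (by
    simpa [mul_assoc] using mul_mem hs (conj_mem_of_mem_normalizer c.norm (inv_mem hs)))⟩
  rcases exists_u t c.hz c.zS c.le c.yz (c.fix h).le le_normalizer with ⟨u, hu, st⟩ | h1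
  swap
  · exact not_uniq hG c.syl h1
  have c2 : S2 S z u := ⟨c.hz, c.syl, c.le, hZ, st⟩
  obtain ⟨w, t', r⟩ := c2.exists_w h
  obtain ⟨z', h1, h2, -⟩ := c2.stop h t c.yz c.zS hu le_normalizer hZ (fun s hs _ => hs) t' r
  have h3 := card_mod3 t'.hw t'.nR
  have h4 := card_mod3 c.hy c.norm
  rw [h2, card2 h1] at h3
  rw [c.fix h, card2 c.hz, c2.card_T] at h4
  omega

end Cfsg.Lib.Six
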